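import Cfsg.Agent.Lib.Invol.SECriterion.Final
import Cfsg.Agent.Lib.Invol.SECriterion.Consumers.Simple
import Cfsg.Agent.Lib.Fusion.Transfer
import Cfsg.Agent.Lib.Invol.Basic

/-!
# Central intersections of Sylow 2-subgroups of rank at most one: first facts
-/

set_option autoImplicit false
set_option linter.style.haveILetI false
set_option linter.unusedSectionVars false

open Subgroup

namespace CfsgLib.CentInt

open CfsgLib.Invol

universe u

variable {G : Type u} [Group G] [Finite G]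

/-- Every central intersection of two distinct Sylow `2`-subgroups has rank at most one. -/
def CIHyp (G : Type u) [Group G] : Prop :=
  ∀ S T : Sylow 2 G, S ≠ T →
    ((S : Subgroup G) ⊓ (T : Subgroup G) = ⊥ ∨
      ∃ z ∈ (S : Subgroup G) ⊓ (T : Subgroup G), orderOf z = 2 ∧
        ∃ U : Sylow 2 G, z ∈ (center ↥(U : Subgroup G)).map (U : Subgroup G).subtype) →
    Cfsg.PRankLE 2 1 ↥((S : Subgroup G) ⊓ (T : Subgroup G))

theorem mem_center_map {U : Subgroup G} {z : G} :
    z ∈ (center ↥U).map U.subtype ↔ z ∈ U ∧ ∀ s ∈ U, s * z = z * s := by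
  constructor
  · rintro ⟨w, hw, rfl⟩
    exact ⟨w.2, fun s hs => congrArg Subtype.val (mem_center_iff.1 hw ⟨s, hs⟩)⟩
  · rintro ⟨h, hc⟩
    exact ⟨⟨z, h⟩, mem_center_iff.2 fun s => Subtype.ext (hc s s.2), rfl⟩

/-- The four-subgroup generated by two commuting elements of square one. -/
def fourSub (a b : G) (ha : a * a = 1) (hb : b * b = 1) (hab : Commute a b) : Subgroup G where
  carrier := {x | x = 1 ∨ x = a ∨ x = b ∨ x = a * b}
  one_mem' := Or.inl rfl
  mul_mem' := by
    intro x y hx hy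
    have e1 : a * (a * b) = b := by rw [← mul_assoc, ha, one_mul]
    have e2 : b * (a * b) = a := by rw [hab.eq, ← mul_assoc, hb, one_mul]
    have e3 : a * b * a = b := by rw [hab.eq, mul_assoc, ha, mul_one]
    have e4 : a * b * b = a := by rw [mul_assoc, hb, mul_one]
    have e5 : a * b * (a * b) = 1 := by rw [← mul_assoc, e3, hb]
    rcases hx with rfl | rfl | rfl | rfl <;> rcases hy with rfl | rfl | rfl | rfl <;>
      simp only [Set.mem_setOf_eq, one_mul, mul_one, ha, hb, hab.symm.eq, e1, e2, e3, e4, e5, true_or, or_true]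
  inv_mem' := by
    intro x hx
    have hia : a⁻¹ = a := inv_eq_of_mul_eq_one_left ha
    have hib : b⁻¹ = b := inv_eq_of_mul_eq_one_left hb
    rcases hx with rfl | rfl | rfl | rfl <;>
      simp only [Set.mem_setOf_eq, inv_one, mul_inv_rev, hia, hib, hab.symm.eq, true_or, or_true]

theorem mem_fourSub {a b : G} {ha : a * a = 1} {hb : b * b = 1} {hab : Commute a b} {x : G} :
    x ∈ fourSub a b ha hb hab ↔ x = 1 ∨ x = a ∨ x = b ∨ x = a * b := Iff.rfl

/-- The elements of square one in the centre of `S`. -/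
def zSub (S : Sylow 2 G) : Subgroup G where
  carrier := {y | y ∈ (S : Subgroup G) ∧ y * y = 1 ∧ ∀ s ∈ (S : Subgroup G), s * y = y * s}
  one_mem' := ⟨one_mem _, one_mul 1, fun s _ => by rw [mul_one, one_mul]⟩
  mul_mem' := by
    rintro a b ⟨ha, ha2, hac⟩ ⟨hb, hb2, hbc⟩
    refine ⟨mul_mem ha hb, ?_, fun s hs => ?_⟩
    · rw [← mul_assoc, mul_assoc a b a, hac b hb, ← mul_assoc, ha2, one_mul, hb2]
    · rw [← mul_assoc, hac s hs, mul_assoc, hbc s hs, mul_assoc]
  inv_mem' := by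
    rintro a ⟨ha, ha2, hac⟩
    rw [inv_eq_of_mul_eq_one_left ha2]
    exact ⟨ha, ha2, hac⟩

theorem zSub_le (S : Sylow 2 G) : zSub S ≤ (S : Subgroup G) := fun _ h => h.1

/-- Two-elements of the normalizer lie in the Sylow subgroup. -/
theorem mem_sylow_of_normalizer {S : Sylow 2 G} {x : G} {k : ℕ}
    (hx : x ∈ normalizer ((S : Subgroup G) : Set G)) (hk : x ^ 2 ^ k = 1) : x ∈ (S : Subgroup G) := by
  haveI : Fact (Nat.Prime 2) := ⟨Nat.prime_two⟩
  have hR : IsPGroup 2 (zpowers x ⊔ (S : Subgroup G) : Subgroup G) := by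
    refine IsPGroup.to_sup_of_normal_right' ?_ S.2 (zpowers_le.2 hx)
    rintro ⟨_, i, rfl⟩
    refine ⟨k, Subtype.ext ?_⟩
    show (x ^ i) ^ (2 ^ k) = 1
    rw [← zpow_natCast, zpow_comm, zpow_natCast, hk, one_zpow]
  rw [← S.3 hR le_sup_right]
  exact mem_sup_left (mem_zpowers x)

theorem mem_sylow_of_normalizer_invol {S : Sylow 2 G} {x : G}
    (hx : x ∈ normalizer ((S : Subgroup G) : Set G)) (h2 : x * x = 1) : x ∈ (S : Subgroup G) :=
  mem_sylow_of_normalizer (k := 1) hx (by rw [pow_one, pow_two, h2])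

variable (hI : CIHyp G)
include hI

/-- Two Sylow subgroups with a common four group containing a 2-central involution are equal. -/
theorem sylow_eq_of_four {S T : Sylow 2 G} {U : Sylow 2 G} {a b : G}
    (haS : a ∈ (S : Subgroup G)) (haT : a ∈ (T : Subgroup G))
    (hbS : b ∈ (S : Subgroup G)) (hbT : b ∈ (T : Subgroup G))
    (ha : orderOf a = 2) (hb : orderOf b = 2) (hne : a ≠ b) (hab : Commute a b)
    (haU : a ∈ (U : Subgroup G)) (hUc : ∀ s ∈ (U : Subgroup G), s * a = a * s) : S = T := by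
  by_contra hST
  have hr := hI S T hST (Or.inr ⟨a, ⟨haS, haT⟩, ha, U, mem_center_map.2 ⟨haU, hUc⟩⟩)
  have hV : fourSub a b (invol_mul_self ha) (invol_mul_self hb) hab ≤ (S : Subgroup G) ⊓ (T : Subgroup G) := by
    intro x hx
    rcases mem_fourSub.1 hx with rfl | rfl | rfl | rfl
    · exact one_mem _
    · exact ⟨haS, haT⟩
    · exact ⟨hbS, hbT⟩
    · exact ⟨mul_mem haS hbS, mul_mem haT hbT⟩
  set V := fourSub a b (invol_mul_self ha) (invol_mul_self hb) hab with hVdef
  set D := (S : Subgroup G) ⊓ (T : Subgroup G)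
  have hsq : ∀ x ∈ V, x * x = 1 := by
    intro x hx
    rcases mem_fourSub.1 hx with rfl | rfl | rfl | rfl
    · exact one_mul 1
    · exact invol_mul_self ha
    · exact invol_mul_self hb
    · rw [hab.symm.mul_mul_mul_comm, invol_mul_self ha, invol_mul_self hb, one_mul]
  have hcomm : ∀ x ∈ V, ∀ y ∈ V, x * y = y * x := fun x hx y hy => by
    have h := hsq _ (mul_mem hx hy)
    rw [← inv_eq_of_mul_eq_one_left h, mul_inv_rev, inv_eq_of_mul_eq_one_left (hsq x hx),
      inv_eq_of_mul_eq_one_left (hsq y hy)]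
  have hle := hr (V.subgroupOf D) ⟨⟨fun x y => Subtype.ext (Subtype.ext (hcomm _ x.2 _ y.2))⟩⟩
    (fun x hx => Subtype.ext (by rw [Subgroup.coe_pow, pow_two]; exact hsq _ hx))
  rw [Nat.card_congr (subgroupOfEquivOfLe hV).toEquiv] at hle
  have h3 : ({1, a, b} : Set G) ⊆ (V : Set G) := by
    intro x hx
    simp only [Set.mem_insert_iff, Set.mem_singleton_iff] at hx
    rcases hx with rfl | rfl | rfl
    · exact one_mem _
    · exact mem_fourSub.2 (Or.inr (Or.inl rfl))
    · exact mem_fourSub.2 (Or.inr (Or.inr (Or.inl rfl)))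
  have hc := Set.ncard_le_ncard h3 (Set.toFinite _)
  rw [Set.ncard_eq_three.2 ⟨1, a, b, (invol_ne_one ha).symm, (invol_ne_one hb).symm, hne, rfl⟩,
    ← Nat.card_coe_set_eq] at hc
  change 3 ≤ Nat.card V at hc
  omega

/-- An involution of `S` whose centralizer has odd index is central in `S`. -/
theorem mem_zSub_of_central (S : Sylow 2 G) {x : G} (hxS : x ∈ (S : Subgroup G)) (hx : orderOf x = 2)
    (U : Sylow 2 G) (hxU : x ∈ (U : Subgroup G)) (hU : ∀ s ∈ (U : Subgroup G), s * x = x * s) :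
    x ∈ zSub S := by
  haveI : Fact (Nat.Prime 2) := ⟨Nat.prime_two⟩
  have hne : (S : Subgroup G) ≠ ⊥ := fun h => invol_ne_one hx (mem_bot.1 (h ▸ hxS))
  haveI : Nontrivial (S : Subgroup G) := (Subgroup.nontrivial_iff_ne_bot _).2 hne
  haveI := S.2.center_nontrivial
  have hev : Even (Nat.card (center (S : Subgroup G))) := by
    obtain ⟨n, hn0, hn⟩ := (S.2.to_subgroup (center (S : Subgroup G))).nontrivial_iff_card.1 inferInstance
    rw [hn]
    exact Nat.even_pow.2 ⟨even_two, hn0.ne'⟩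
  obtain ⟨c, hcm, hc2⟩ := exists_invol_mem hev
  set a : G := (c : G) with ha
  have ha2 : orderOf a = 2 := by rw [ha, Subgroup.orderOf_coe, hc2]
  have hca : ∀ s ∈ (S : Subgroup G), s * a = a * s := fun s hs =>
    congrArg Subtype.val (mem_center_iff.1 hcm ⟨s, hs⟩)
  by_cases hxa : x = a
  · exact ⟨hxS, invol_mul_self hx, hxa ▸ hca⟩
  -- a Sylow subgroup of the centralizer of `x` containing that of `S`
  set C := centralizer ({x} : Set G) with hC
  have hUC : (U : Subgroup G) ≤ C := fun s hs => mem_centralizer_singleton_iff.2 (hU s hs)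
  have hP : IsPGroup 2 (((S : Subgroup G) ⊓ C).subgroupOf C) :=
    (S.2.to_le inf_le_left).comap_subtype
  obtain ⟨k, hk⟩ := exists_conj_le_sylow hP (U.subtype hUC)
  set U' : Sylow 2 G := ((k : G))⁻¹ • U with hU'
  have hmem : ∀ y : G, y ∈ (U' : Subgroup G) ↔ (k : G) * y * (k : G)⁻¹ ∈ (U : Subgroup G) := fun y => by
    rw [hU', Sylow.coe_subgroup_smul, mem_smul_pointwise_iff_exists]
    constructor
    · rintro ⟨s, hs, rfl⟩
      show (k : G) * ((k : G)⁻¹ * s * (k : G)⁻¹⁻¹) * (k : G)⁻¹ ∈ _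
      rwa [show (k : G) * ((k : G)⁻¹ * s * (k : G)⁻¹⁻¹) * (k : G)⁻¹ = s by group]
    · intro h
      exact ⟨_, h, by show (k : G)⁻¹ * ((k : G) * y * (k : G)⁻¹) * (k : G)⁻¹⁻¹ = y; group⟩
  have hkx : (k : G) * x * (k : G)⁻¹ = x := by
    rw [mem_centralizer_singleton_iff.1 k.2, mul_inv_cancel_right]
  have hin : ∀ y ∈ (S : Subgroup G) ⊓ C, y ∈ (U' : Subgroup G) := fun y hy =>
    (hmem y).2 (hk ⟨y, hy.2⟩ hy)
  have hxU' : ∀ s ∈ (U' : Subgroup G), s * x = x * s := fun s hs => by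
    have h := hU _ ((hmem s).1 hs)
    have h2 := mem_centralizer_singleton_iff.1 k.2
    calc s * x = (k : G)⁻¹ * ((k : G) * s * (k : G)⁻¹ * ((k : G) * x * (k : G)⁻¹)) * k := by group
      _ = (k : G)⁻¹ * ((k : G) * x * (k : G)⁻¹ * ((k : G) * s * (k : G)⁻¹)) * k := by rw [hkx, h]
      _ = x * s := by group
  have haC : a ∈ C := mem_centralizer_singleton_iff.2 (hca x hxS).symm
  have hxC : x ∈ C := mem_centralizer_singleton_iff.2 rfl
  have e : S = U' := sylow_eq_of_four hI hxS (hin x ⟨hxS, hxC⟩) (c : (S : Subgroup G)).2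
    (hin a ⟨(c : (S : Subgroup G)).2, haC⟩) hx ha2 hxa (hca x hxS) (hin x ⟨hxS, hxC⟩) hxU'
  exact ⟨hxS, invol_mul_self hx, fun s hs => hxU' s (e ▸ hs)⟩

variable {S : Sylow 2 G} {z : G}

/-- A conjugate in `S` of a central involution is central. -/
theorem conj_mem_zSub (hz : z ∈ zSub S) (hz1 : z ≠ 1) {g : G} (hg : g * z * g⁻¹ ∈ (S : Subgroup G)) :
    g * z * g⁻¹ ∈ zSub S := by
  refine mem_zSub_of_central hI S hg (invol_conj (invol_iff.2 ⟨hz.2.1, hz1⟩) g) (g • S) ?_ ?_
  · rw [Sylow.coe_subgroup_smul, mem_smul_pointwise_iff_exists]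
    exact ⟨z, hz.1, rfl⟩
  · intro s hs
    rw [Sylow.coe_subgroup_smul, mem_smul_pointwise_iff_exists] at hs
    obtain ⟨w, hw, rfl⟩ := hs
    show g * w * g⁻¹ * (g * z * g⁻¹) = g * z * g⁻¹ * (g * w * g⁻¹)
    calc g * w * g⁻¹ * (g * z * g⁻¹) = g * (w * z) * g⁻¹ := by group
      _ = g * (z * w) * g⁻¹ := by rw [hz.2.2 w hw]
      _ = g * z * g⁻¹ * (g * w * g⁻¹) := by group

/-- The normalizer of `S` controls the fusion of its central involutions. -/
theorem exists_normalizer_conj (hz : z ∈ zSub S) (hz1 : z ≠ 1) {g : G}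
    (hg : g * z * g⁻¹ ∈ (S : Subgroup G)) :
    ∃ n ∈ normalizer ((S : Subgroup G) : Set G), n * z * n⁻¹ = g * z * g⁻¹ := by
  haveI : Fact (Nat.Prime 2) := ⟨Nat.prime_two⟩
  exact CfsgLib.Fusion.exists_normalizer_conj_eq_of_central S
    (fun s hs => mem_centralizer_singleton_iff.2 (hz.2.2 s hs)) g
    (fun s hs => mem_centralizer_singleton_iff.2 ((conj_mem_zSub hI hz hz1 hg).2.2 s hs))

/-- In the centralizer of a central involution, every other involution of `S` fuses only inside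
`N(S)`. -/
theorem fuse (hz : z ∈ zSub S) (hz1 : z ≠ 1) {x g : G} (hxS : x ∈ (S : Subgroup G)) (hx : x * x = 1)
    (hx1 : x ≠ 1) (hxz : x ≠ z) (hgz : g * z = z * g)
    (hgx : g * x * g⁻¹ ∈ normalizer ((S : Subgroup G) : Set G)) :
    g ∈ normalizer ((S : Subgroup G) : Set G) := by
  haveI : Fact (Nat.Prime 2) := ⟨Nat.prime_two⟩
  have hzo : orderOf z = 2 := invol_iff.2 ⟨hz.2.1, hz1⟩
  have hxo : orderOf x = 2 := invol_iff.2 ⟨hx, hx1⟩
  have hgxS : g * x * g⁻¹ ∈ (S : Subgroup G) :=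
    mem_sylow_of_normalizer_invol hgx (invol_mul_self (invol_conj hxo g))
  have hgz' : g * z * g⁻¹ = z := by rw [hgz, mul_inv_cancel_right]
  have e : g • S = S := by
    refine sylow_eq_of_four hI (U := S) (a := z) (b := g * x * g⁻¹) ?_ hz.1 ?_ hgxS hzo (invol_conj hxo g) ?_ (hz.2.2 _ hgxS).symm hz.1 hz.2.2
    · rw [Sylow.coe_subgroup_smul, mem_smul_pointwise_iff_exists]
      exact ⟨z, hz.1, hgz'⟩
    · rw [Sylow.coe_subgroup_smul, mem_smul_pointwise_iff_exists]
      exact ⟨x, hxS, rfl⟩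
    · intro e
      exact hxz (mul_left_cancel (mul_right_cancel (e.symm.trans hgz'.symm)))
  exact Sylow.smul_eq_iff_mem_normalizer.1 e

/-- If the centralizers of the central involutions normalize `S`, then `N(S)` is strongly embedded. -/
theorem exists_stronglyEmbedded [IsSimpleGroup G] (hz : z ∈ zSub S) (hz1 : z ≠ 1)
    (hall : ∀ w ∈ zSub S, w ≠ 1 → centralizer ({w} : Set G) ≤ normalizer ((S : Subgroup G) : Set G))
    (hne : normalizer ((S : Subgroup G) : Set G) ≠ ⊤) :
    ∃ H : Subgroup G, Cfsg.IsStronglyEmbedded H := by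
  have hzo : orderOf z = 2 := invol_iff.2 ⟨hz.2.1, hz1⟩
  refine CfsgLib.SECrit.criterion_of_critThm CfsgLib.SECrit.critThm _ hne z hzo (le_normalizer hz.1)
    ⟨S, hz.1, fun s hs => hz.2.2 s hs⟩ (fun g hg => ?_) fun g hg hne' => ?_
  · have hgS := mem_sylow_of_normalizer_invol hg (invol_mul_self (invol_conj hzo g))
    obtain ⟨n, hn, e⟩ := exists_normalizer_conj hI hz hz1 hgS
    have h1 : n⁻¹ * g ∈ centralizer ({z} : Set G) := by
      rw [mem_centralizer_singleton_iff]
      calc n⁻¹ * g * z = n⁻¹ * (g * z * g⁻¹) * g := by group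
        _ = z * (n⁻¹ * g) := by rw [← e]; group
    exact (mul_mem_cancel_left (inv_mem hn)).1 (hall z hz hz1 h1)
  · have hgN := hall z hz hz1 (mem_centralizer_singleton_iff.2 hg.symm.eq)
    have hgS := mem_sylow_of_normalizer_invol hgN (invol_mul_self (invol_conj hzo g))
    have hY := conj_mem_zSub hI hz hz1 hgS
    exact hall _ (mul_mem hz hY) fun e =>
      hne' ((eq_inv_of_mul_eq_one_left (by rw [← hg.eq]; exact e)).trans (invol_inv hzo))

end CfsgLib.CentInt
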