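import Cfsg.Agent.Lib.Invol.CentralInter.Two
import Cfsg.Agent.Lib.Bender.Suzuki.Consumers
import Cfsg.Agent.Lib.Bender.Suzuki.Classified
import Cfsg.Agent.Lib.LocalStructure.Basic
import Cfsg.Agent.Lib.SU.UnitalModel
import Cfsg.Agent.Lib.SU.InvolCentThree.Models
import Cfsg.Agent.Lib.Classical.SylowCharTwoInst

/-!
# Eight central involutions: the component of the quotient of a centralizer
-/

set_option autoImplicit false
set_option linter.style.haveILetI false
set_option linter.unusedSectionVars false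

open Subgroup

namespace CfsgLib.CentInt

open CfsgLib.Invol

universe u

variable {G : Type u} [Group G] [Finite G] {S : Sylow 2 G} {z : G}

namespace Bad

/-- The quotient of the centralizer. -/
abbrev Quo (S : Sylow 2 G) (z : G) : Type u := ↥(centralizer ({z} : Set G)) ⧸ cK S z

/-- The component: the normal closure of the images of the central involutions. -/
abbrev comp (S : Sylow 2 G) (z : G) : Subgroup (Quo S z) :=
  normalClosure (((zSub S).subgroupOf (centralizer ({z} : Set G))).map (QuotientGroup.mk' (cK S z)) : Set (Quo S z))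

variable (h : Bad S z) (h8 : Nat.card (zSub S) = 8)
include h h8

theorem exists_others : ∃ y, y ∈ others S z := by
  by_contra hn
  push Not at hn
  have hsub : (zSub S : Set G) ⊆ {1, z} := fun a ha => by
    by_contra ha'
    simp only [Set.mem_insert_iff, Set.mem_singleton_iff, not_or] at ha'
    exact hn a ⟨ha, ha'.1, ha'.2⟩
  have := Set.ncard_le_ncard hsub (Set.toFinite _)
  rw [← Nat.card_coe_set_eq, Set.ncard_pair h.ne_one.symm] at this
  change Nat.card (zSub S) ≤ 2 at this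
  omega

theorem core_bot : Cfsg.pPrimeCore 2 (Quo S z) = ⊥ := by
  obtain ⟨y, hy⟩ := h.exists_others h8
  obtain ⟨hsub, hun, -, hcard⟩ := orbit_split h.mem h.ne_one h.twoOrb hy
  have hX : 3 ≤ (others S z).ncard := by
    have hsub' : (zSub S : Set G) ⊆ others S z ∪ {1, z} := fun a ha => by
      by_cases e : a = 1 ∨ a = z
      · exact Or.inr e
      · push Not at e
        exact Or.inl ⟨ha, e.1, e.2⟩
    have h1 := (Set.ncard_le_ncard hsub' (Set.toFinite _)).trans (Set.ncard_union_le _ _)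
    rw [← Nat.card_coe_set_eq, Set.ncard_pair h.ne_one.symm] at h1
    change Nat.card (zSub S) ≤ _ at h1
    omega
  obtain ⟨c, hc, hcne⟩ : ∃ c ∈ others S z, c ∉ ({y, y * z} : Set G) := by
    refine Set.exists_mem_notMem_of_ncard_lt_ncard (lt_of_le_of_lt (Set.ncard_insert_le _ _) ?_) (Set.toFinite _)
    rw [Set.ncard_singleton]
    omega
  simp only [Set.mem_insert_iff, Set.mem_singleton_iff, not_or] at hcne
  refine h.core_eq_bot hy.1.1 hc.1.1 hy.1.2.1 hc.1.2.1 hy.2.1 hc.2.1 (hy.1.2.2 c hc.1.1).symm (Ne.symm hcne.1)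
    hy.2.2 hc.2.2 fun e => hcne.2 ?_
  rw [← e, ← mul_assoc, hy.1.2.1, one_mul]

theorem comp_eq {y : G} (hy : y ∈ others S z) :
    comp S z = normalClosure ({QuotientGroup.mk' (cK S z) (h.lift hy.1.1)} : Set (Quo S z)) := by
  refine le_antisymm ?_ (normalClosure_mono (Set.singleton_subset_iff.2 ⟨h.lift hy.1.1, hy.1, rfl⟩))
  refine normalClosure_le_normal ?_
  rintro _ ⟨x, hx, rfl⟩
  by_cases hx1 : (x : G) = 1
  · rw [show x = 1 from Subtype.ext hx1, map_one]; exact one_mem _
  by_cases hxz : (x : G) = z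
  · rw [SetLike.mem_coe, show QuotientGroup.mk' (cK S z) x = 1 from ?_]
    · exact one_mem _
    refine (QuotientGroup.eq_one_iff _).2 fun c => ?_
    show (c : G) * x * (c : G)⁻¹ ∈ normalizer ((S : Subgroup G) : Set G)
    rw [hxz, mem_centralizer_singleton_iff.1 c.2, mul_inv_cancel_right]
    exact le_normalizer h.mem.1
  · exact h.mem_closure_of (h.core_bot h8) hy.1 hy.2.1 hy.2.2 hx hx1 hxz

theorem comp_invol {t : Quo S z} (htL : t ∈ comp S z) (htM : t ∈ cM S z) (ht : orderOf t = 2) :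
    ∃ x : ↥(centralizer ({z} : Set G)), (x : G) ∈ others S z ∧ QuotientGroup.mk' (cK S z) x = t := by
  obtain ⟨y, hy⟩ := h.exists_others h8
  rw [h.comp_eq h8 hy] at htL
  obtain ⟨m, hm, e⟩ := h.exists_conj_of_mem (h.core_bot h8) hy.1 hy.2.1 hy.2.2 htL htM ht
  have hmS : (m : G) ∈ zStab S z := mem_zStab.2 ⟨mem_centralizer_singleton_iff.1 m.2, hm⟩
  exact ⟨m * h.lift hy.1.1 * m⁻¹,
    ⟨conj_mem_zSub_of_normalizer hm hy.1, stab_ne hmS hy.2.1 hy.2.2⟩, e⟩

theorem comp_isSimple :
    IsSimpleGroup ↥(comp S z) ∧ ¬ IsMulCommutative ↥(comp S z) ∧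
      Cfsg.IsStronglyEmbedded ((cM S z).subgroupOf (comp S z)) := by
  haveI : Fact (Nat.Prime 2) := ⟨Nat.prime_two⟩
  obtain ⟨y, hy⟩ := h.exists_others h8
  have hO := h.core_bot h8
  set π := QuotientGroup.mk' (cK S z)
  set t₀ := π (h.lift hy.1.1) with ht₀
  have hLe := h.comp_eq h8 hy
  set L := normalClosure ({t₀} : Set (Quo S z)) with hL
  haveI : L.Normal := normalClosure_normal
  have hSE : Cfsg.IsStronglyEmbedded ((cM S z).subgroupOf L) := h.stronglyEmbedded hO hy.1 hy.2.1 hy.2.2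
  have ht₀o : orderOf t₀ = 2 := h.image_invol hy.1.1 hy.1.2.1 hy.2.1 hy.2.2
  have htL : t₀ ∈ L := subset_normalClosure (Set.mem_singleton _)
  have hLO : Cfsg.pPrimeCore 2 ↥L = ⊥ := by
    haveI : (Cfsg.pPrimeCore 2 ↥L).Characteristic := by
      rw [CfsgLib.Coprime.pPrimeCore_eq_piCore Nat.prime_two]
      exact CfsgLib.Coprime.piCore_characteristic _
    set O' := (Cfsg.pPrimeCore 2 ↥L).map L.subtype
    haveI : O'.Normal := ConjAct.normal_of_characteristic_of_normal
    have hle : O' ≤ Cfsg.pPrimeCore 2 (Quo S z) := by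
      refine CfsgLib.Coprime.le_pPrimeCore_of_not_dvd Nat.prime_two ?_
      rw [card_map_of_injective L.subtype_injective]
      exact CfsgLib.Coprime.pPrimeCore_not_dvd Nat.prime_two
    rw [hO, le_bot_iff, map_eq_bot_iff_of_injective _ L.subtype_injective] at hle
    exact hle
  haveI : Nontrivial ↥L := ⟨⟨⟨t₀, htL⟩, 1, fun e => invol_ne_one ht₀o (congrArg Subtype.val e)⟩⟩
  have hsimple : IsSimpleGroup ↥L := ⟨fun N hN => by
    by_cases hNb : N = ⊥
    · exact Or.inl hNb
    right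
    have h2 : 2 ∣ Nat.card N := by
      by_contra hd
      haveI := hN
      exact hNb (le_bot_iff.1 ((CfsgLib.Coprime.le_pPrimeCore_of_not_dvd Nat.prime_two hd).trans hLO.le))
    obtain ⟨w, hw, hwo⟩ := exists_invol_mem (even_iff_two_dvd.2 h2)
    refine eq_top_iff.2 fun l _ => ?_
    have hall : ∀ x : ↥L, orderOf x = 2 → x ∈ N := fun x hx => by
      obtain ⟨c, hc⟩ := isConj_iff.1 (exists_conj_fixing hSE hwo hx)
      rw [← hc]
      exact hN.conj_mem w hw c
    suffices L ≤ N.map L.subtype by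
      obtain ⟨l', hl', e⟩ := this l.2
      rwa [← show l' = l from Subtype.ext e]
    refine (closure_le _).2 ?_
    intro x hx
    obtain ⟨s, hs, hc⟩ := Group.mem_conjugatesOfSet_iff.1 hx
    obtain ⟨g, rfl⟩ := isConj_iff.1 hc
    rw [Set.mem_singleton_iff.1 hs]
    exact ⟨⟨g * t₀ * g⁻¹, (inferInstance : L.Normal).conj_mem _ htL g⟩,
      hall _ (by rw [Subgroup.orderOf_mk]; exact invol_conj ht₀o g), rfl⟩⟩
  rw [hLe]
  refine ⟨hsimple, fun hab => hSE.1 (subgroupOf_eq_top.2 fun l hl => ?_), hSE⟩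
  exact h.centralizer_le_cM hy.1.1 hy.1.2.1 hy.2.1 hy.2.2 (mem_centralizer_singleton_iff.2
    (congrArg Subtype.val (hab.is_comm.comm (⟨l, hl⟩ : ↥L) ⟨t₀, htL⟩)))

theorem card_zImage :
    Nat.card (((zSub S).subgroupOf (centralizer ({z} : Set G))).map (QuotientGroup.mk' (cK S z))) = 4 := by
  set π := QuotientGroup.mk' (cK S z)
  set A := (zSub S).subgroupOf (centralizer ({z} : Set G)) with hA
  have hA8 : Nat.card A = 8 := by
    rw [hA, Nat.card_congr (subgroupOfEquivOfLe ((zSub_le S).trans h.sylow_le)).toEquiv, h8]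
  set φ := π.comp A.subtype with hφ
  have hker : (φ.ker : Set A) = {1, ⟨⟨z, mem_centralizer_singleton_iff.2 rfl⟩, h.mem⟩} := by
    ext a
    constructor
    · intro ha
      by_cases e1 : ((a : ↥(centralizer ({z} : Set G))) : G) = 1
      · exact Or.inl (Subtype.ext (Subtype.ext e1))
      by_cases e2 : ((a : ↥(centralizer ({z} : Set G))) : G) = z
      · exact Or.inr (Subtype.ext (Subtype.ext e2))
      exact absurd ((QuotientGroup.eq_one_iff _).1 ha)
        (h.notMem_cK (x := (a : ↥(centralizer ({z} : Set G)))) (a.2 : _ ∈ zSub S).1 (a.2 : _ ∈ zSub S).2.1 e1 e2)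
    · rintro (rfl | rfl)
      · exact one_mem _
      · refine (QuotientGroup.eq_one_iff _).2 fun c => ?_
        show (c : G) * z * (c : G)⁻¹ ∈ normalizer ((S : Subgroup G) : Set G)
        rw [mem_centralizer_singleton_iff.1 c.2, mul_inv_cancel_right]
        exact le_normalizer h.mem.1
  have hk2 : Nat.card φ.ker = 2 := by
    rw [show Nat.card φ.ker = (φ.ker : Set A).ncard from Nat.card_coe_set_eq _, hker, Set.ncard_pair]
    exact fun e => h.ne_one (congrArg (fun a : A => ((a : ↥(centralizer ({z} : Set G))) : G)) e).symm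
  have hr : φ.range = A.map π := by rw [hφ, MonoidHom.range_eq_map, ← Subgroup.map_map, ← MonoidHom.range_eq_map, range_subtype]
  have h1 := φ.ker.index_mul_card
  rw [index_ker, hr, hk2, hA8] at h1
  omega

/-- The two possible components, with a Sylow subgroup. -/
theorem comp_cases : ∃ T : Sylow 2 ↥(comp S z),
    (T : Subgroup ↥(comp S z)).map (comp S z).subtype =
      (((S : Subgroup G).subgroupOf (centralizer ({z} : Set G))).map (QuotientGroup.mk' (cK S z))) ⊓ comp S z ∧
    Nat.card {t : ↥(T : Subgroup ↥(comp S z)) // t * t = 1} = 4 ∧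
    ((∃ (F : Type) (_ : Field F) (_ : Fintype F), Fintype.card F = 4 ∧ Nat.card (T : Subgroup ↥(comp S z)) = 4 ∧
        Nonempty (↥(comp S z) ≃* Matrix.ProjectiveSpecialLinearGroup (Fin 2) F)) ∨
      ∃ (F : Type) (_ : Field F) (_ : Fintype F), Fintype.card F = 16 ∧
        Nonempty (↥(comp S z) ≃* Cfsg.PSU 3 F 4)) := by
  haveI : Fact (Nat.Prime 2) := ⟨Nat.prime_two⟩
  obtain ⟨hsimple, hnab, hSE⟩ := h.comp_isSimple h8
  haveI := hsimple
  set π := QuotientGroup.mk' (cK S z)
  set L := comp S z with hL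
  let SC : Sylow 2 ↥(centralizer ({z} : Set G)) := S.subtype h.sylow_le
  let SQ : Sylow 2 (Quo S z) := SC.mapSurjective (QuotientGroup.mk'_surjective (cK S z))
  obtain ⟨T, hT⟩ := CfsgLib.LS.sylow_inf_normal SQ L
  have hT' : (T : Subgroup ↥L).map L.subtype = ((S : Subgroup G).subgroupOf (centralizer ({z} : Set G))).map π ⊓ L := hT
  have hmemT : ∀ t : ↥L, t ∈ (T : Subgroup ↥L) ↔
      (t : Quo S z) ∈ ((S : Subgroup G).subgroupOf (centralizer ({z} : Set G))).map π := fun t => by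
    constructor
    · intro ht
      exact (hT'.le ⟨t, ht, rfl⟩).1
    · intro ht
      obtain ⟨t', ht', e⟩ := hT'.ge ⟨ht, t.2⟩
      rwa [← show t' = t from Subtype.ext e]
  -- the elements of square one
  have h4 : Nat.card {t : ↥(T : Subgroup ↥L) // t * t = 1} = 4 := by
    have hset : Nat.card {t : ↥(T : Subgroup ↥L) // t * t = 1} =
        Nat.card (((zSub S).subgroupOf (centralizer ({z} : Set G))).map π) := by
      refine Nat.card_eq_of_bijective (fun t => ⟨((t.1 : ↥L) : Quo S z), ?_⟩) ⟨fun a b e => ?_, ?_⟩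
      · by_cases e : ((t.1 : ↥L) : Quo S z) = 1
        · rw [e]; exact one_mem _
        have hM : ((t.1 : ↥L) : Quo S z) ∈ cM S z := by
          obtain ⟨s, hs, e'⟩ := (hmemT _).1 t.1.2
          exact e' ▸ mem_map_of_mem _ (show (s : G) ∈ normalizer ((S : Subgroup G) : Set G) from le_normalizer hs)
        obtain ⟨x, hx, hxe⟩ := h.comp_invol h8 (t.1 : ↥L).2 hM
          (invol_iff.2 ⟨congrArg (fun w : ↥(T : Subgroup ↥L) => ((w : ↥L) : Quo S z)) t.2, e⟩)
        exact ⟨x, hx.1, hxe⟩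
      · have e' := congrArg Subtype.val e
        exact Subtype.ext (Subtype.ext (Subtype.ext e'))
      · rintro ⟨_, x, hx, rfl⟩
        have hxL : π x ∈ L := subset_normalClosure ⟨x, hx, rfl⟩
        refine ⟨⟨⟨⟨π x, hxL⟩, (hmemT _).2 ⟨x, (hx : (x : G) ∈ zSub S).1, rfl⟩⟩, Subtype.ext (Subtype.ext ?_)⟩, rfl⟩
        show π x * π x = 1
        rw [← map_mul, show x * x = 1 from Subtype.ext (hx : (x : G) ∈ zSub S).2.1, map_one]
    rw [hset]
    exact h.card_zImage h8
  refine ⟨T, hT', h4, ?_⟩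
  rcases CfsgLib.Bender.Suzuki.isoFamilies_of_se CfsgLib.Bender.Suzuki.classified hSE with
    ⟨F, iF, iF', ⟨n, hn, hF⟩, ⟨e⟩⟩ | ⟨F, iF, iF', m, hm, hF, ⟨e⟩⟩ | ⟨F, iF, iF', n, hn, hF, ⟨e⟩⟩
  · haveI : CharP F 2 := CfsgLib.Bender.Suzuki.charTwo_of_card hF
    let P : Sylow 2 (Matrix.ProjectiveSpecialLinearGroup (Fin 2) F) :=
      T.mapSurjective (f := e.toMonoidHom) e.surjective
    let eP : ↥(T : Subgroup ↥L) ≃* ↥(P : Subgroup (Matrix.ProjectiveSpecialLinearGroup (Fin 2) F)) :=
      (T : Subgroup ↥L).equivMapOfInjective e.toMonoidHom e.injective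
    have hP : Nat.card (P : Subgroup (Matrix.ProjectiveSpecialLinearGroup (Fin 2) F)) = 2 ^ n :=
      (CfsgLib.PushUpTwo.psl_sylow_facts hF P).1
    have hcom := CfsgLib.SU.CentThree.psl_two_sylow_comm hF (by omega) P
    haveI : IsMulCommutative ↥(P : Subgroup (Matrix.ProjectiveSpecialLinearGroup (Fin 2) F)) :=
      ⟨⟨fun a b => Subtype.ext (hcom _ a.2 _ b.2)⟩⟩
    have hsq : ∀ x : ↥(P : Subgroup (Matrix.ProjectiveSpecialLinearGroup (Fin 2) F)), x * x = 1 := fun x => by
      have h1 := CfsgLib.Classical.SylowCharTwo.psl (by norm_num) P x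
      rw [(commutator_eq_bot_iff_center_eq_top _).2 (eq_top_iff.2 fun a _ => mem_center_iff.2 fun b =>
        IsMulCommutative.is_comm.comm b a), mem_bot, pow_two] at h1
      exact h1
    have hT2 : Nat.card (T : Subgroup ↥L) = 4 := by
      rw [← h4]
      exact (Nat.card_congr (Equiv.subtypeUnivEquiv fun t => eP.injective (by rw [map_mul, map_one]; exact hsq _))).symm
    refine Or.inl ⟨F, iF, iF', ?_, hT2, ⟨e⟩⟩
    have hn2 : 2 ^ n = 4 := by rw [← hP, ← Nat.card_congr eP.toEquiv, hT2]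
    rw [hF, hn2]
  · exfalso
    obtain ⟨w⟩ := CfsgLib.Lie.Suz.exists_twEquiv (F := F) (m := m) hm hF
    let E' : ↥L ≃* Cfsg.Sz F m := e.trans w.symm
    let P : Sylow 2 (Cfsg.Sz F m) := T.mapSurjective (f := E'.toMonoidHom) E'.surjective
    let eP : ↥(T : Subgroup ↥L) ≃* ↥(P : Subgroup (Cfsg.Sz F m)) :=
      (T : Subgroup ↥L).equivMapOfInjective E'.toMonoidHom E'.injective
    obtain ⟨-, ι, hι, hιP⟩ := CfsgLib.SU.CentThree.suz_sylow hm hF P
    have hle : Nat.card F ≤ Nat.card {t : ↥(T : Subgroup ↥L) // t * t = 1} :=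
      Nat.card_le_card_of_injective (fun b => ⟨eP.symm ⟨ι b, (hιP b).1⟩, by
        rw [← map_mul, show (⟨ι b, (hιP b).1⟩ : ↥(P : Subgroup (Cfsg.Sz F m))) * ⟨ι b, (hιP b).1⟩ = 1 from
          Subtype.ext (hιP b).2, map_one]⟩) fun a b e' =>
        hι (congrArg Subtype.val (eP.symm.injective (congrArg Subtype.val e')))
    rw [Nat.card_eq_fintype_card, hF, h4] at hle
    have : 2 ^ 3 ≤ 2 ^ (2 * m + 1) := Nat.pow_le_pow_right two_pos (by omega)
    omega
  · haveI : CharP F 2 := CfsgLib.Bender.Suzuki.charTwo_of_card (n := n * 2) (by rw [hF, ← pow_mul])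
    let P : Sylow 2 (Cfsg.PSU 3 F (2 ^ n)) := T.mapSurjective (f := e.toMonoidHom) e.surjective
    let eP : ↥(T : Subgroup ↥L) ≃* ↥(P : Subgroup (Cfsg.PSU 3 F (2 ^ n))) :=
      (T : Subgroup ↥L).equivMapOfInjective e.toMonoidHom e.injective
    obtain ⟨W, -⟩ := CfsgLib.SU.unital_sylow_psu (by omega) hF P
    set W' := W.congr eP
    have hc := W'.card_center_eq (q := 2 ^ n) (by rw [Nat.card_eq_fintype_card, hF])
    have hcc : Nat.card (center ↥(T : Subgroup ↥L)) = 4 := by
      rw [← h4]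
      exact Nat.card_congr (Equiv.subtypeEquivRight fun t => W'.mem_center_iff.trans W'.mul_self_eq_one_iff.symm)
    rw [hcc] at hc
    obtain rfl : n = 2 := Nat.pow_right_injective le_rfl (show 2 ^ n = 2 ^ 2 by rw [← hc])
    exact Or.inr ⟨F, iF, iF', by rw [hF]; norm_num, ⟨e⟩⟩

end Bad

end CfsgLib.CentInt
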