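import Cfsg.Agent.Lib.Invol.CentralInter.Lift
import Cfsg.Agent.S3239
import Cfsg.Agent.S0252
import Cfsg.Agent.Lib.Invol.TwoTimesAlt.Five
import Cfsg.Agent.Lib.Char.J1.Spectrum

/-!
# Eight central involutions: a component of degree five gives the first Janko group
-/

set_option autoImplicit false
set_option linter.style.haveILetI false
set_option linter.unusedSectionVars false
set_option synthInstance.maxSize 4096
set_option maxRecDepth 100000

open Subgroup

namespace CfsgLib.CentInt

open CfsgLib.Invol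

universe u

variable {G : Type u} [Group G] [Finite G] {S : Sylow 2 G} {z : G}

namespace Bad

/-- The weak closure is `2 × A₅`, so the group is the first Janko group. -/
theorem isJ1_of_five [IsSimpleGroup G] (hG : ¬ IsMulCommutative G) (h : Bad S z) (h8 : Nat.card (zSub S) = 8)
    {F : Type} [Field F] [Fintype F] (hF : Fintype.card F = 4)
    (e : ↥(comp S z) ≃* Matrix.ProjectiveSpecialLinearGroup (Fin 2) F) : Cfsg.IsJ1 G := by
  haveI : Fact (Nat.Prime 2) := ⟨Nat.prime_two⟩
  haveI : (clos S z).Normal := normalClosure_normal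
  have hEn : (layerE S z).Normal := commutator_normal _ _
  obtain ⟨e5⟩ := Cfsg.Agent.S0252.result hF
  have hbij : Function.Bijective (h.toComp h8) := by
    refine ⟨fun a b hab => ?_, (h.toComp_stem h8).1⟩
    exact Subtype.ext (inv_mul_eq_one.1 (h.layerE_inf_core h8 (mul_mem (inv_mem a.2) b.2)
      ((QuotientGroup.eq (s := cK S z)).1 (congrArg Subtype.val hab))))
  set ε : ↥(layerE S z) ≃* alternatingGroup (Fin 5) :=
    (MulEquiv.ofBijective (h.toComp h8) hbij).trans (e.trans e5)
  set ψ : alternatingGroup (Fin 5) →* G :=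
    ((centralizer ({z} : Set G)).subtype.comp (layerE S z).subtype).comp ε.symm.toMonoidHom with hψ
  have hψi : Function.Injective ψ := fun a b hab => ε.symm.injective (Subtype.ext (Subtype.ext hab))
  have hψz : ∀ x, Commute z (ψ x) := fun x =>
    (mem_centralizer_singleton_iff.1 ((ε.symm x : ↥(centralizer ({z} : Set G))).2)).symm
  have hψmem : ∀ c : ↥(centralizer ({z} : Set G)), c ∈ layerE S z → ∃ x, ψ x = (c : G) := fun c hc =>
    ⟨ε ⟨c, hc⟩, by simp [hψ]⟩
  set φ : Multiplicative (ZMod 2) →* G := MonoidHom.mk' (fun w => z ^ (Multiplicative.toAdd w).val)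
    (fun a b => by
      rw [toAdd_mul, ZMod.val_add, ← pow_add]
      conv_rhs => rw [← pow_mod_orderOf, h.orderOf_z]) with hφ
  set f : Multiplicative (ZMod 2) × alternatingGroup (Fin 5) →* G :=
    φ.noncommCoprod ψ (fun a x => (hψz x).pow_left _) with hf
  have hfap : ∀ a x, f (a, x) = φ a * ψ x := fun a x => rfl
  have hnot : ∀ x, ψ x ≠ z := fun x hx =>
    h.z_notMem_layerE h8 (by
      have e1 : ((ε.symm x : ↥(layerE S z)) : ↥(centralizer ({z} : Set G))) = ⟨z, mem_centralizer_singleton_iff.2 rfl⟩ :=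
        Subtype.ext hx
      rw [← e1]; exact (ε.symm x).2)
  have hfi : Function.Injective f := by
    rw [← MonoidHom.ker_eq_bot_iff, eq_bot_iff]
    rintro ⟨a, x⟩ hax
    rw [MonoidHom.mem_ker, hfap] at hax
    rcases CfsgLib.Invol.TwoTimesAlt.two_cases a with rfl | rfl
    · have hx : ψ x = 1 := by simpa [hφ] using hax
      rw [hψi (hx.trans (map_one ψ).symm)]
      rfl
    · exfalso
      have hv : (1 : ZMod 2).val = 1 := rfl
      rw [show φ (Multiplicative.ofAdd 1) = z ^ (1 : ZMod 2).val from rfl, hv, pow_one] at hax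
      have hx := eq_inv_of_mul_eq_one_right hax
      rw [inv_eq_of_mul_eq_one_left h.mem.2.1] at hx
      exact hnot x hx
  have hfz : f (Multiplicative.ofAdd 1, 1) = z := by
    rw [hfap, map_one ψ, mul_one,
      show φ (Multiplicative.ofAdd 1) = z ^ (1 : ZMod 2).val from rfl, show (1 : ZMod 2).val = 1 from rfl, pow_one]
  have hfψ : ∀ x, f (1, x) = ψ x := fun x => by rw [hfap, map_one, one_mul]
  -- conjugation into the Sylow subgroup
  have hconj : ∀ x : ↥(centralizer ({z} : Set G)), orderOf x = 2 →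
      ∃ k : ↥(centralizer ({z} : Set G)), ((k * x * k⁻¹ : ↥(centralizer ({z} : Set G))) : G) ∈ (S : Subgroup G) := by
    intro x hx
    obtain ⟨k, hk⟩ := exists_conj_le_sylow (Q := zpowers x)
      (IsPGroup.of_card (n := 1) (by rw [Nat.card_zpowers, hx, pow_one])) (S.subtype h.sylow_le)
    exact ⟨k, hk x (mem_zpowers x)⟩
  set W := Subgroup.closure {x : G | ∃ g : G, x = g * z * g⁻¹ ∧ x * z = z * x} with hW
  have hrange : f.range = W := by
    refine le_antisymm ?_ ((closure_le _).2 ?_)
    · have hinv : ∀ a : alternatingGroup (Fin 5), a * a = 1 → ψ a ∈ W := by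
        intro a haa
        by_cases ha1 : a = 1
        · rw [ha1, map_one]; exact one_mem _
        set c : ↥(centralizer ({z} : Set G)) := ((ε.symm a : ↥(layerE S z)) : ↥(centralizer ({z} : Set G)))
        have hc2 : orderOf c = 2 := by
          rw [Subgroup.orderOf_coe, MulEquiv.orderOf_eq, invol_iff]
          exact ⟨haa, ha1⟩
        obtain ⟨k, hk⟩ := hconj c hc2
        have hkY := h.layerE_invol h8 (hEn.conj_mem c (ε.symm a).2 k) hk
          (congrArg Subtype.val (invol_mul_self (invol_conj hc2 k)))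
        obtain ⟨n, -, hn⟩ := h.transitive' hG hkY fun e' =>
          invol_ne_one (invol_conj hc2 k) (Subtype.ext e')
        refine subset_closure ⟨(k : G)⁻¹ * n, ?_, (hψz a).symm.eq⟩
        calc ψ a = (k : G)⁻¹ * ((k : G) * (c : G) * (k : G)⁻¹) * k := by
              show (c : G) = _
              group
          _ = (k : G)⁻¹ * (n * z * n⁻¹) * k := by rw [hn]; rfl
          _ = (k : G)⁻¹ * n * z * ((k : G)⁻¹ * n)⁻¹ := by group
      rintro _ ⟨⟨a, x⟩, rfl⟩
      rw [hfap]
      refine W.mul_mem (W.pow_mem (subset_closure ⟨1, by group, rfl⟩) _) ?_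
      obtain ⟨p, q, hp, hq, rfl⟩ := CfsgLib.Invol.TwoTimesAlt.alt_five_gen x
      rw [map_mul]
      exact W.mul_mem (hinv p hp) (hinv q hq)
    · rintro x ⟨g, rfl, hgz⟩
      set c : ↥(centralizer ({z} : Set G)) := ⟨g * z * g⁻¹, mem_centralizer_singleton_iff.2 hgz⟩ with hc
      obtain ⟨k, hk⟩ := hconj c (by rw [hc, Subgroup.orderOf_mk]; exact invol_conj h.orderOf_z g)
      have hk' : (k : G) * g * z * ((k : G) * g)⁻¹ ∈ (S : Subgroup G) := by
        rw [show (k : G) * g * z * ((k : G) * g)⁻¹ = (k : G) * (g * z * g⁻¹) * (k : G)⁻¹ by group]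
        exact hk
      obtain ⟨d, hd, -, hdy⟩ := h.exists_lift h8 (conj_mem_zSub h.hyp h.mem h.ne_one hk')
      obtain ⟨x, hx⟩ := hψmem (k⁻¹ * d * k) (by
        have := hEn.conj_mem d hd k⁻¹
        rwa [inv_inv] at this)
      have hzk : (k : G)⁻¹ * z * k = z := by
        rw [mul_assoc, ← mem_centralizer_singleton_iff.1 k.2, inv_mul_cancel_left]
      have hx' : ψ x = (k : G)⁻¹ * d * k := hx
      rcases hdy with e1 | e1
      · refine ⟨(1, x), ?_⟩
        rw [hfψ, hx', e1]
        group
      · refine ⟨(1, x) * (Multiplicative.ofAdd 1, 1), ?_⟩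
        rw [map_mul, hfψ, hfz, hx', e1]
        calc (k : G)⁻¹ * ((k : G) * g * z * ((k : G) * g)⁻¹ * z) * k * z
            = g * z * g⁻¹ * ((k : G)⁻¹ * z * k) * z := by group
          _ = g * z * g⁻¹ := by rw [hzk, mul_assoc (g * z * g⁻¹), h.mem.2.1, mul_one]
  let E : ↥W ≃* Multiplicative (ZMod 2) × alternatingGroup (Fin 5) :=
    (MulEquiv.subgroupCongr hrange.symm).trans (MonoidHom.ofInjective hfi).symm
  obtain ⟨eJ⟩ := Cfsg.Agent.S3239.result z h.orderOf_z S h.mem.1 h.mem.2.2 ⟨E⟩
  have htop : normalClosure ({z} : Set G) = ⊤ :=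
    normalClosure_normal.eq_bot_or_eq_top.resolve_left fun e' => by
      have hz : z ∈ normalClosure ({z} : Set G) := subset_normalClosure (Set.mem_singleton z)
      rw [e', mem_bot] at hz
      exact h.ne_one hz
  refine ⟨inferInstance, ?_⟩
  rw [← Nat.card_congr ((Subgroup.topEquiv.symm.trans (MulEquiv.subgroupCongr htop.symm)).trans eJ).symm.toEquiv]
  exact CfsgLib.Char.J1.card_eq

end Bad

end CfsgLib.CentInt
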