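import Cfsg.Agent.Lib.Invol.CentralInter.Comp
import Cfsg.Agent.Lib.Fusion.Abelian
import Cfsg.Agent.Lib.Lie.Mult.Unit.ThreeFour
import Cfsg.Agent.S0252
import Cfsg.Agent.Lib.Invol.HallJankoCount
import Mathlib.Algebra.Group.Shrink
import Mathlib.Logic.Small.Basic

/-!
# Eight central involutions: the component splits in the centralizer
-/

set_option autoImplicit false
set_option linter.style.haveILetI false
set_option linter.unusedSectionVars false

open Subgroup
open scoped commutatorElement

namespace CfsgLib.CentInt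

open CfsgLib.Invol

universe u

variable {G : Type u} [Group G] [Finite G] {S : Sylow 2 G} {z : G}

namespace Bad

/-- The normal closure of the central involutions in the centralizer. -/
abbrev clos (S : Sylow 2 G) (z : G) : Subgroup ↥(centralizer ({z} : Set G)) :=
  normalClosure ((zSub S).subgroupOf (centralizer ({z} : Set G)) : Set ↥(centralizer ({z} : Set G)))

/-- Its derived subgroup. -/
abbrev layerE (S : Sylow 2 G) (z : G) : Subgroup ↥(centralizer ({z} : Set G)) := ⁅clos S z, clos S z⁆

theorem map_clos (S : Sylow 2 G) (z : G) :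
    (clos S z).map (QuotientGroup.mk' (cK S z)) = comp S z := by
  rw [clos, Subgroup.map_normalClosure _ _ (QuotientGroup.mk'_surjective _), ← coe_map]

variable (h : Bad S z) (h8 : Nat.card (zSub S) = 8)
include h h8

/-- The core centralizes the normal closure. -/
theorem commute_core {w k : ↥(centralizer ({z} : Set G))} (hw : w ∈ clos S z) (hk : k ∈ cK S z) :
    w * k = k * w := by
  have hle : cK S z ≤ centralizer ((zSub S).subgroupOf (centralizer ({z} : Set G)) : Set ↥(centralizer ({z} : Set G))) := by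
    intro k hk
    refine mem_centralizer_iff.2 fun x hx => ?_
    have hxY : (x : G) ∈ zSub S := hx
    have hkN : (k : G) ∈ normalizer ((S : Subgroup G) : Set G) := (normalCore_le (cN S z) hk : k ∈ cN S z)
    have hcj : (k : G) * x * (k : G)⁻¹ ∈ zSub S := conj_mem_zSub_of_normalizer hkN hxY
    by_cases e : (k : G) * x * (k : G)⁻¹ = x
    · exact Subtype.ext (mul_inv_eq_iff_eq_mul.1 e).symm
    exfalso
    have hd : (x : G)⁻¹ * ((k : G) * x * (k : G)⁻¹) ≠ z := by
      intro e2
      have e3 : (k : G) * x * (k : G)⁻¹ = x * z := by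
        calc (k : G) * x * (k : G)⁻¹ = x * ((x : G)⁻¹ * ((k : G) * x * (k : G)⁻¹)) := by group
          _ = x * z := by rw [e2]
      refine e ?_
      rw [e3]
      refine (no_swap hkN hxY e3 ?_).symm
      calc (k : G) * (x * z) * (k : G)⁻¹ = ((k : G) * x * (k : G)⁻¹) * ((k : G) * z * (k : G)⁻¹) := by group
        _ = x := by rw [e3, mem_centralizer_singleton_iff.1 k.2, mul_inv_cancel_right, mul_assoc, h.mem.2.1, mul_one]
    refine h.notMem_cK (x := x⁻¹ * (k * x * k⁻¹)) (mul_mem (inv_mem hxY) hcj).1 (mul_mem (inv_mem hxY) hcj).2.1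
      (fun e1 => e (inv_mul_eq_one.1 e1).symm) hd ?_
    rw [show x⁻¹ * (k * x * k⁻¹) = (x⁻¹ * k * x) * k⁻¹ by group]
    refine mul_mem ?_ (inv_mem hk)
    simpa using (normalCore_normal (cN S z)).conj_mem k hk x⁻¹
  haveI : (cK S z).Normal := normalCore_normal _
  have hle2 : clos S z ≤ centralizer (cK S z : Set ↥(centralizer ({z} : Set G))) := normalClosure_le_normal fun x hx =>
    mem_centralizer_iff.2 fun k' hk' => ((mem_centralizer_iff.1 (hle hk')) x hx).symm
  exact ((mem_centralizer_iff.1 (hle2 hw)) k hk).symm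

theorem map_layerE : (layerE S z).map (QuotientGroup.mk' (cK S z)) = comp S z := by
  obtain ⟨hs, hn, -⟩ := h.comp_isSimple h8
  rw [layerE, map_commutator, map_clos]
  haveI := hs
  have : commutator ↥(comp S z) = ⊤ := by
    rcases (inferInstance : (commutator ↥(comp S z)).Normal).eq_bot_or_eq_top with e | e
    · exact absurd ⟨⟨fun a b => commutatorElement_eq_one_iff_mul_comm.1 (mem_bot.1
        (e ▸ commutator_mem_commutator (mem_top a) (mem_top b)))⟩⟩ hn
    · exact e
  rw [_root_.commutator_def] at this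
  calc ⁅comp S z, comp S z⁆ =
      Subgroup.map (comp S z).subtype ⁅(⊤ : Subgroup ↥(comp S z)), (⊤ : Subgroup ↥(comp S z))⁆ := by
        rw [map_commutator, ← MonoidHom.range_eq_map, range_subtype]
    _ = comp S z := by rw [this, ← MonoidHom.range_eq_map, range_subtype]

theorem layerE_le_perfect : layerE S z ≤ ⁅layerE S z, layerE S z⁆ := by
  have hdec : ∀ a ∈ clos S z, ∃ e ∈ layerE S z, ∃ k ∈ cK S z, a = e * k ∧ k ∈ clos S z := by
    intro a ha
    have : QuotientGroup.mk' (cK S z) a ∈ (layerE S z).map (QuotientGroup.mk' (cK S z)) := by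
      rw [h.map_layerE h8, ← map_clos]
      exact mem_map_of_mem _ ha
    obtain ⟨e, he, hee⟩ := this
    exact ⟨e, he, e⁻¹ * a, (QuotientGroup.eq (s := cK S z)).1 hee, (mul_inv_cancel_left e a).symm,
      mul_mem (inv_mem (commutator_le_self _ he)) ha⟩
  refine commutator_le.2 fun a ha b hb => ?_
  obtain ⟨e, he, k, hk, rfl, hkW⟩ := hdec a ha
  obtain ⟨f, hf, l, hl, rfl, hlW⟩ := hdec b hb
  have c1 : Commute k f := (h.commute_core h8 (commutator_le_self _ hf) hk).symm
  have c2 : Commute l e := (h.commute_core h8 (commutator_le_self _ he) hl).symm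
  have c3 : Commute k l := (h.commute_core h8 hlW hk).symm
  have c4 : Commute k e := (h.commute_core h8 (commutator_le_self _ he) hk).symm
  have c5 : Commute l f := (h.commute_core h8 (commutator_le_self _ hf) hl).symm
  have key : ⁅e * k, f * l⁆ = ⁅e, f⁆ := by
    rw [commutatorElement_def, commutatorElement_def, mul_inv_rev, mul_inv_rev]
    calc e * k * (f * l) * (k⁻¹ * e⁻¹) * (l⁻¹ * f⁻¹)
        = e * ((k * (f * l)) * k⁻¹) * e⁻¹ * (l⁻¹ * f⁻¹) := by group
      _ = e * f * (l * e⁻¹) * l⁻¹ * f⁻¹ := by rw [(c1.mul_right c3).eq]; group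
      _ = e * f * e⁻¹ * f⁻¹ := by rw [c2.inv_right.eq]; group
  rw [key]
  exact commutator_mem_commutator he hf

/-- The map from the layer onto the component. -/
def toComp : ↥(layerE S z) →* ↥(comp S z) :=
  ((QuotientGroup.mk' (cK S z)).comp (layerE S z).subtype).codRestrict (comp S z) fun e => by
    rw [← h.map_layerE h8]
    exact ⟨e, e.2, rfl⟩

theorem toComp_apply (e : ↥(layerE S z)) :
    ((h.toComp h8 e : ↥(comp S z)) : Quo S z) = QuotientGroup.mk' (cK S z) e := rfl

theorem toComp_stem : Cfsg.IsStemExtension (h.toComp h8) := by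
  refine ⟨fun t => ?_, fun x hx => ?_, fun x _ => ?_⟩
  · obtain ⟨e, he, hee⟩ := (h.map_layerE h8).ge t.2
    exact ⟨⟨e, he⟩, Subtype.ext hee⟩
  · refine mem_center_iff.2 fun e => Subtype.ext ?_
    exact h.commute_core h8 (commutator_le_self _ e.2) ((QuotientGroup.eq_one_iff _).1 (congrArg Subtype.val hx))
  · have hle := h.layerE_le_perfect h8 x.2
    have e2 : ⁅layerE S z, layerE S z⁆ = (commutator ↥(layerE S z)).map (layerE S z).subtype := by
      rw [_root_.commutator_def, map_commutator, ← MonoidHom.range_eq_map, range_subtype]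
    obtain ⟨w, hw, hwe⟩ := e2.le hle
    rwa [← show w = x from Subtype.ext hwe]

/-- The layer meets the core trivially. -/
theorem layerE_inf_core {x : ↥(centralizer ({z} : Set G))} (hxE : x ∈ layerE S z) (hxK : x ∈ cK S z) : x = 1 := by
  haveI : Fact (Nat.Prime 2) := ⟨Nat.prime_two⟩
  obtain ⟨T, hT, h4, hcases⟩ := h.comp_cases h8
  suffices hk : (h.toComp h8).ker = ⊥ by
    have : (⟨x, hxE⟩ : ↥(layerE S z)) ∈ (h.toComp h8).ker :=
      Subtype.ext ((QuotientGroup.eq_one_iff x).2 hxK)
    rw [hk, mem_bot] at this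
    exact congrArg Subtype.val this
  have hst := h.toComp_stem h8
  rcases hcases with ⟨F, iF, iF', hF, hT4, ⟨e⟩⟩ | ⟨F, iF, iF', hF, ⟨e⟩⟩
  · -- abelian Sylow subgroups and transfer
    have hL : Nat.card ↥(comp S z) = 60 := by
      rw [Nat.card_congr e.toEquiv]
      obtain ⟨e5⟩ := Cfsg.Agent.S0252.result hF
      rw [Nat.card_congr e5.toEquiv, CfsgLib.Invol.HallJanko.card_alt_five]
    rw [eq_bot_iff]
    intro k hk
    rw [mem_bot]
    by_contra hk1
    obtain ⟨p, hp, hpd⟩ := Nat.exists_prime_and_dvd (fun e' => hk1 (orderOf_eq_one_iff.1 e'))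
    haveI : Fact p.Prime := ⟨hp⟩
    obtain ⟨w, hwdef⟩ : ∃ w, w = k ^ (orderOf k / p) := ⟨_, rfl⟩
    have hwo : orderOf w = p := hwdef ▸ orderOf_pow_orderOf_div (orderOf_pos k).ne' hpd
    have hwk : w ∈ (h.toComp h8).ker := hwdef ▸ pow_mem hk _
    obtain ⟨P, hwP⟩ : ∃ P : Sylow p ↥(layerE S z), w ∈ (P : Subgroup ↥(layerE S z)) := by
      obtain ⟨P, hP⟩ := (IsPGroup.of_card (n := 1) (by rw [Nat.card_zpowers, hwo, pow_one]) :
        IsPGroup p (zpowers w)).exists_le_sylow
      exact ⟨P, hP (mem_zpowers w)⟩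
    have hab : IsMulCommutative ↥(P : Subgroup ↥(layerE S z)) := by
      by_cases hp2 : p = 2
      · subst hp2
        let SC : Sylow 2 ↥(centralizer ({z} : Set G)) := S.subtype h.sylow_le
        obtain ⟨R, hR⟩ := CfsgLib.LS.sylow_inf_normal SC (layerE S z)
        have hRab : ∀ a ∈ (R : Subgroup ↥(layerE S z)), ∀ b ∈ (R : Subgroup ↥(layerE S z)), a * b = b * a := by
          intro a ha b hb
          have hsq : ∀ c ∈ (R : Subgroup ↥(layerE S z)), ∃ x : ↥(centralizer ({z} : Set G)), (x : G) ∈ zSub S ∧
              ∃ k ∈ cK S z, (c : ↥(centralizer ({z} : Set G))) = x * k := by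
            intro c hc
            have hcS : ((c : ↥(centralizer ({z} : Set G))) : G) ∈ (S : Subgroup G) := (hR.le ⟨c, hc, rfl⟩).1
            have hin : (h.toComp h8 c) ∈ (T : Subgroup ↥(comp S z)) := by
              obtain ⟨t, ht, hte⟩ := hT.ge ⟨⟨(c : ↥(centralizer ({z} : Set G))), hcS, rfl⟩, (h.toComp h8 c).2⟩
              rwa [← show t = h.toComp h8 c from Subtype.ext hte]
            have hall : ∀ t : ↥(T : Subgroup ↥(comp S z)), t * t = 1 := by
              intro t
              have hb' := (Nat.bijective_iff_injective_and_card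
                (fun s : {t : ↥(T : Subgroup ↥(comp S z)) // t * t = 1} => (s : ↥(T : Subgroup ↥(comp S z))))).2
                ⟨Subtype.val_injective, by rw [h4, hT4]⟩
              obtain ⟨s, rfl⟩ := hb'.2 t
              exact s.2
            by_cases e1 : h.toComp h8 c = 1
            · exact ⟨1, one_mem _, (c : ↥(centralizer ({z} : Set G))),
                (QuotientGroup.eq_one_iff _).1 (congrArg Subtype.val e1), (one_mul _).symm⟩
            obtain ⟨x, hx, hxe⟩ := h.comp_invol h8 (h.toComp h8 c).2
              (mem_map_of_mem _ (show ((c : ↥(centralizer ({z} : Set G))) : G) ∈ normalizer ((S : Subgroup G) : Set G)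
                from le_normalizer hcS))
              (invol_iff.2 ⟨congrArg Subtype.val (congrArg (fun w : ↥(T : Subgroup ↥(comp S z)) => (w : ↥(comp S z)))
                (hall ⟨_, hin⟩)), fun e' => e1 (Subtype.ext e')⟩)
            exact ⟨x, hx.1, x⁻¹ * c, (QuotientGroup.eq (s := cK S z)).1 hxe, (mul_inv_cancel_left _ _).symm⟩
          obtain ⟨x, hx, k', hk', ea⟩ := hsq a ha
          obtain ⟨y, hy, l, hl, eb⟩ := hsq b hb
          have hxc : x ∈ clos S z := subset_normalClosure hx
          have hyc : y ∈ clos S z := subset_normalClosure hy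
          have hlc : l ∈ clos S z := by
            rw [show l = y⁻¹ * (b : ↥(centralizer ({z} : Set G))) by rw [eb, inv_mul_cancel_left]]
            exact mul_mem (inv_mem hyc) (commutator_le_self _ b.2)
          refine Subtype.ext ?_
          show (a : ↥(centralizer ({z} : Set G))) * b = b * a
          rw [ea, eb]
          have c1 : Commute k' y := (h.commute_core h8 hyc hk').symm
          have c2 : Commute k' l := (h.commute_core h8 hlc hk').symm
          have c3 : Commute x l := h.commute_core h8 hxc hl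
          have c4 : Commute x y := Subtype.ext (hy.2.2 _ hx.1)
          exact (((c4.mul_right c3).mul_left (c1.mul_right c2))).eq
        obtain ⟨g, hg⟩ := MulAction.exists_smul_eq ↥(layerE S z) R P
        refine ⟨⟨fun a b => Subtype.ext ?_⟩⟩
        obtain ⟨a, ha⟩ := a
        obtain ⟨b, hb⟩ := b
        show a * b = b * a
        rw [← hg, Sylow.coe_subgroup_smul, mem_smul_pointwise_iff_exists] at ha hb
        obtain ⟨a', ha', rfl⟩ := ha
        obtain ⟨b', hb', rfl⟩ := hb
        show MulAut.conj g a' * MulAut.conj g b' = MulAut.conj g b' * MulAut.conj g a'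
        rw [← map_mul, ← map_mul, hRab a' ha' b' hb']
      · -- odd primes: cyclic images
        set φ := (h.toComp h8).comp (P : Subgroup ↥(layerE S z)).subtype with hφ
        obtain ⟨j, hj⟩ := (P.2.of_surjective φ.rangeRestrict φ.rangeRestrict_surjective).exists_card_eq
        have hd : p ^ j ∣ 60 := by
          rw [← hj, ← hL]
          exact card_subgroup_dvd_card _
        have hj1 : j ≤ 1 := by
          by_contra hh
          have h2 : p ^ 2 ∣ 60 := (pow_dvd_pow p (by omega : 2 ≤ j)).trans hd
          have : p ≤ 7 := by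
            by_contra hh'
            have : 8 * 8 ≤ p ^ 2 := by rw [pow_two]; exact Nat.mul_le_mul (by omega) (by omega)
            have := Nat.le_of_dvd (by norm_num) h2
            omega
          interval_cases p <;> first | exact hp2 rfl | (norm_num at hp; done) | (norm_num at h2; done)
        haveI : IsCyclic φ.range := by
          rcases Nat.le_one_iff_eq_zero_or_eq_one.1 hj1 with rfl | rfl
          · rw [pow_zero] at hj
            haveI : Subsingleton φ.range := (Nat.card_eq_one_iff_unique.1 hj).1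
            exact isCyclic_of_subsingleton
          · exact isCyclic_of_prime_card (p := p) (by rw [hj, pow_one])
        refine ⟨⟨fun a b => commutative_of_cyclic_center_quotient φ.rangeRestrict (fun q hq => ?_) a b⟩⟩
        rw [MonoidHom.ker_rangeRestrict] at hq
        exact mem_center_iff.2 fun r => Subtype.ext (mem_center_iff.1 (hst.2.1 (show (q : ↥(layerE S z)) ∈ _ from hq)) r)
    haveI := hab
    have h1 := CfsgLib.Fusion.central_inf_commutator_eq_one (P : Subgroup ↥(layerE S z)) P.card_coprime_index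
      (hst.2.1 hwk) (hst.2.2 hwk) hwP
    rw [h1, orderOf_one] at hwo
    exact hp.ne_one hwo.symm
  · -- the multiplier of the unitary group is trivial
    have hM : Cfsg.HasCyclicSchurMultiplier (Cfsg.PSU 3 F 4) (Nat.gcd 3 (4 + 1)) :=
      CfsgLib.Lie.Mult.Unit.psu_three_four (by rw [hF]; norm_num)
    let ε : Shrink.{0} ↥(layerE S z) ≃* ↥(layerE S z) := Shrink.mulEquiv
    let σ : Shrink.{0} ↥(layerE S z) →* Cfsg.PSU 3 F 4 :=
      e.toMonoidHom.comp ((h.toComp h8).comp ε.toMonoidHom)
    have hsurj : Function.Surjective σ :=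
      e.surjective.comp (hst.1.comp ε.surjective)
    have hker : ∀ x, x ∈ σ.ker ↔ ε x ∈ (h.toComp h8).ker := fun x => by
      rw [MonoidHom.mem_ker, MonoidHom.mem_ker]
      exact e.map_eq_one_iff
    have hσ : Cfsg.IsStemExtension σ := by
      refine ⟨hsurj, fun x hx => mem_center_iff.2 fun y => ?_, fun x hx => ?_⟩
      · apply ε.injective
        rw [map_mul, map_mul]
        exact mem_center_iff.1 (hst.2.1 ((hker x).1 hx)) _
      · have h2 := hst.2.2 ((hker x).1 hx)
        have h3 : (ε.symm.toMonoidHom) (ε x) ∈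
            (commutator ↥(layerE S z)).map ε.symm.toMonoidHom :=
          mem_map_of_mem _ h2
        rw [MulEquiv.coe_toMonoidHom, MulEquiv.symm_apply_apply, _root_.commutator_def, map_commutator] at h3
        exact commutator_mono le_top le_top h3
    obtain ⟨φ, hφ⟩ := hM.2 (Shrink.{0} ↥(layerE S z)) σ hσ
    rw [eq_bot_iff]
    intro k hk
    have hk' : ε.symm k ∈ σ.ker := by
      rw [hker, MulEquiv.apply_symm_apply]; exact hk
    obtain ⟨a, ha⟩ := hφ ⟨_, hk'⟩
    have ha1 : a = 1 := by
      haveI : Subsingleton (Multiplicative (ZMod (Nat.gcd 3 (4 + 1)))) := by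
        rw [show Nat.gcd 3 (4 + 1) = 1 from rfl]; infer_instance
      exact Subsingleton.elim _ _
    rw [ha1, map_one] at ha
    have h5 : ε.symm k = 1 := (congrArg Subtype.val ha).symm
    rw [mem_bot, ← MulEquiv.apply_symm_apply ε k, h5, map_one]

theorem z_notMem_layerE : (⟨z, mem_centralizer_singleton_iff.2 rfl⟩ : ↥(centralizer ({z} : Set G))) ∉ layerE S z := by
  intro hz
  refine h.ne_one (congrArg Subtype.val (h.layerE_inf_core h8 hz ?_))
  intro c
  show (c : G) * z * (c : G)⁻¹ ∈ normalizer ((S : Subgroup G) : Set G)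
  rw [mem_centralizer_singleton_iff.1 c.2, mul_inv_cancel_right]
  exact le_normalizer h.mem.1

/-- An element of the layer with the image of a central involution is central. -/
theorem mem_zSub_of_image {x e : ↥(centralizer ({z} : Set G))} (hx : (x : G) ∈ zSub S) (he : e ∈ layerE S z)
    (hxe : QuotientGroup.mk' (cK S z) e = QuotientGroup.mk' (cK S z) x) : (e : G) ∈ zSub S := by
  have hee : e * e = 1 := by
    refine h.layerE_inf_core h8 (mul_mem he he) ?_
    rw [← QuotientGroup.eq_one_iff, QuotientGroup.mk_mul]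
    change QuotientGroup.mk' (cK S z) e * QuotientGroup.mk' (cK S z) e = 1
    rw [hxe, ← map_mul, show x * x = 1 from Subtype.ext hx.2.1, map_one]
  set k := x⁻¹ * e with hk
  have hkK : k ∈ cK S z := (QuotientGroup.eq (s := cK S z)).1 hxe.symm
  have hxc : x ∈ clos S z := subset_normalClosure hx
  have hkc : Commute k x := (h.commute_core h8 hxc hkK).symm
  have ek : e = x * k := (mul_inv_cancel_left x e).symm
  have hkk : k * k = 1 := by
    have e2 : (x * k) * (x * k) = 1 := by rw [← ek]; exact hee
    rwa [hkc.mul_mul_mul_comm, show x * x = 1 from Subtype.ext hx.2.1, one_mul] at e2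
  have hkS : (k : G) ∈ (S : Subgroup G) := mem_sylow_of_normalizer_invol (normalCore_le (cN S z) hkK : k ∈ cN S z) (congrArg Subtype.val hkk)
  by_cases e1 : (k : G) = 1
  · rw [ek]; show (x : G) * (k : G) ∈ _; rw [e1, mul_one]; exact hx
  by_cases e2 : (k : G) = z
  · rw [ek]; show (x : G) * (k : G) ∈ _; rw [e2]; exact mul_mem hx h.mem
  exact absurd hkK (h.notMem_cK hkS (congrArg Subtype.val hkk) e1 e2)

/-- Involutions of `S` in the layer are central. -/
theorem layerE_invol {e : ↥(centralizer ({z} : Set G))} (he : e ∈ layerE S z) (heS : (e : G) ∈ (S : Subgroup G))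
    (hee : (e : G) * e = 1) : (e : G) ∈ zSub S := by
  by_cases e1 : (e : G) = 1
  · rw [e1]; exact one_mem _
  have hne : QuotientGroup.mk' (cK S z) e ≠ 1 := fun e' =>
    e1 (congrArg Subtype.val (h.layerE_inf_core h8 he ((QuotientGroup.eq_one_iff e).1 e')))
  obtain ⟨x, hx, hxe⟩ := h.comp_invol h8 ((h.map_layerE h8).le ⟨e, he, rfl⟩)
    (mem_map_of_mem _ (show (e : G) ∈ normalizer ((S : Subgroup G) : Set G) from le_normalizer heS))
    (invol_iff.2 ⟨by rw [← map_mul, show e * e = 1 from Subtype.ext hee, map_one], hne⟩)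
  exact h.mem_zSub_of_image h8 hx.1 he hxe.symm

/-- Each central involution or its product with `z` lies in the layer. -/
theorem exists_lift {y : G} (hy : y ∈ zSub S) :
    ∃ e : ↥(centralizer ({z} : Set G)), e ∈ layerE S z ∧ (e : G) ∈ zSub S ∧ ((e : G) = y ∨ (e : G) = y * z) := by
  have hyL : QuotientGroup.mk' (cK S z) (h.lift hy.1) ∈ comp S z := subset_normalClosure ⟨h.lift hy.1, hy, rfl⟩
  obtain ⟨e, he, hee⟩ := (h.map_layerE h8).ge hyL
  have heY := h.mem_zSub_of_image h8 (x := h.lift hy.1) hy he hee
  exact ⟨e, he, heY, h.eq_or_eq_mul heY hy hee⟩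

end Bad

end CfsgLib.CentInt
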