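import Cfsg.Agent.Lib.Invol.CentralInter.Lift
import Cfsg.Agent.Lib.CIT.TwoNilp.UFour.Structure

/-!
# Eight central involutions: the component is not unitary
-/

set_option autoImplicit false
set_option linter.style.haveILetI false
set_option linter.unusedSectionVars false

open Subgroup
open scoped commutatorElement

namespace CfsgLib.CentInt

open CfsgLib.Invol

universe u

variable {G : Type u} [Group G] [Finite G] {S : Sylow 2 G} {z : G}

namespace Bad

/-- The part of the layer in `S`. -/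
abbrev piece (S : Sylow 2 G) (z : G) : Subgroup G :=
  (S : Subgroup G) ⊓ (layerE S z).map (centralizer ({z} : Set G)).subtype

variable (h : Bad S z) (h8 : Nat.card (zSub S) = 8)
include h h8

theorem piece_normal {p s : G} (hp : p ∈ piece S z) (hs : s ∈ (S : Subgroup G)) : s * p * s⁻¹ ∈ piece S z := by
  obtain ⟨hpS, e, he, rfl⟩ := hp
  refine ⟨(S : Subgroup G).mul_mem ((S : Subgroup G).mul_mem hs hpS) ((S : Subgroup G).inv_mem hs), h.lift hs * e * (h.lift hs)⁻¹, ?_, rfl⟩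
  haveI : (clos S z).Normal := normalClosure_normal
  exact (commutator_normal (clos S z) (clos S z)).conj_mem e he (h.lift hs)

theorem piece_invol {p : G} (hp : p ∈ piece S z) (hpp : p * p = 1) : p ∈ zSub S := by
  obtain ⟨hpS, e, he, rfl⟩ := hp
  exact h.layerE_invol h8 he hpS hpp

theorem z_notMem_piece : z ∉ piece S z := by
  rintro ⟨-, e, he, hez⟩
  exact h.z_notMem_layerE h8 (by rwa [show e = ⟨z, mem_centralizer_singleton_iff.2 rfl⟩ from Subtype.ext hez] at he)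

theorem piece_central {a : G} : a ∈ piece S z ∧ a * a = 1 ↔ a ∈ vSub S z := by
  have hP : ∀ a, a ∈ vSub S z → a ∈ piece S z := by
    intro a ha
    refine (closure_le _).2 ?_ ha
    rintro _ ⟨a, ha, m, hm, rfl⟩
    obtain ⟨e, he, heY, e1 | e1⟩ := h.exists_lift h8 ha
    all_goals
      have hmC : m ∈ centralizer ({z} : Set G) := hm.1
      have hmem : (e : G) * (m * (e : G) * m⁻¹) ∈ piece S z := by
        refine ⟨mul_mem heY.1 (conj_mem_zSub_of_normalizer hm.2 heY).1,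
          e * (⟨m, hmC⟩ * e * ⟨m, hmC⟩⁻¹), mul_mem he ?_, rfl⟩
        haveI : (clos S z).Normal := normalClosure_normal
        exact (commutator_normal (clos S z) (clos S z)).conj_mem e he _
    · rwa [e1] at hmem
    · rw [e1] at hmem
      have e2 : a * z * (m * (a * z) * m⁻¹) = a * (m * a * m⁻¹) := by
        calc a * z * (m * (a * z) * m⁻¹) = a * (z * (m * a * m⁻¹)) * (m * z * m⁻¹) := by group
          _ = a * (m * a * m⁻¹) * (z * z) := by
            rw [conj_z_of_stab hm, (conj_mem_zSub_of_normalizer hm.2 ha).2.2 z h.mem.1]; group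
          _ = a * (m * a * m⁻¹) := by rw [h.mem.2.1, mul_one]
      rwa [e2] at hmem
  refine ⟨fun ⟨ha, haa⟩ => ?_, fun ha => ⟨hP a ha, (vSub_le S z ha).2.1⟩⟩
  have haY := h.piece_invol h8 ha haa
  by_contra haV
  obtain ⟨hiff, -⟩ := vSub_index h.mem h.ne_one h.twoOrb (by omega)
  have haz : a * z ∈ vSub S z :=
    (hiff a haY z h.mem).2 (iff_of_false haV (not_mem_vSub h.mem h.ne_one))
  exact h.z_notMem_piece h8 ((mul_mem_cancel_left ha).1 (hP _ haz))

/-- A Sylow subgroup of the component lifts to the piece. -/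
theorem exists_piece_lift {T : Sylow 2 ↥(comp S z)}
    (hT : (T : Subgroup ↥(comp S z)).map (comp S z).subtype =
      (((S : Subgroup G).subgroupOf (centralizer ({z} : Set G))).map (QuotientGroup.mk' (cK S z))) ⊓ comp S z)
    {t : ↥(comp S z)} (ht : t ∈ (T : Subgroup ↥(comp S z))) :
    ∃ e : ↥(layerE S z), ((e : ↥(centralizer ({z} : Set G))) : G) ∈ (S : Subgroup G) ∧ h.toComp h8 e = t := by
  haveI : Fact (Nat.Prime 2) := ⟨Nat.prime_two⟩
  let SC : Sylow 2 ↥(centralizer ({z} : Set G)) := S.subtype h.sylow_le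
  haveI : (clos S z).Normal := normalClosure_normal
  haveI : (layerE S z).Normal := commutator_normal _ _
  obtain ⟨R, hR⟩ := CfsgLib.LS.sylow_inf_normal SC (layerE S z)
  let R' : Sylow 2 ↥(comp S z) := R.mapSurjective (f := h.toComp h8) (h.toComp_stem h8).1
  have hle : (R' : Subgroup ↥(comp S z)) ≤ T := by
    rintro _ ⟨e, he, rfl⟩
    obtain ⟨t', ht', hte⟩ := hT.ge
      ⟨⟨(e : ↥(centralizer ({z} : Set G))), (hR.le ⟨e, he, rfl⟩).1, rfl⟩, (h.toComp h8 e).2⟩
    rwa [← show t' = h.toComp h8 e from Subtype.ext hte]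
  have : (T : Subgroup ↥(comp S z)) = R' := R'.3 T.2 hle
  rw [this] at ht
  obtain ⟨e, he, rfl⟩ := ht
  exact ⟨e, (hR.le ⟨e, he, rfl⟩).1, rfl⟩

section unitary

variable (hU : ∃ (F : Type) (_ : Field F) (_ : Fintype F), Fintype.card F = 16 ∧
        Nonempty (↥(comp S z) ≃* Cfsg.PSU 3 F 4))
include hU

/-- The piece has the structure of a Sylow subgroup of the unitary group. -/
theorem piece_facts : (∃ a ∈ piece S z, a * a ≠ 1 ∧ a * a ∈ vSub S z) ∧
    (∀ a ∈ piece S z, a * a ∈ vSub S z) ∧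
    ∀ a ∈ piece S z, a * a ≠ 1 → ∀ u ∈ vSub S z, ∃ b ∈ piece S z, ⁅a, b⁆ = u := by
  haveI : Fact (Nat.Prime 2) := ⟨Nat.prime_two⟩
  obtain ⟨T, hT, h4, -⟩ := h.comp_cases h8
  obtain ⟨F, iF, iF', hF, ⟨e⟩⟩ := hU
  let P : Sylow 2 (Cfsg.PSU 3 F 4) := T.mapSurjective (f := e.toMonoidHom) e.surjective
  let eP : ↥(T : Subgroup ↥(comp S z)) ≃* ↥(P : Subgroup (Cfsg.PSU 3 F 4)) :=
    (T : Subgroup ↥(comp S z)).equivMapOfInjective e.toMonoidHom e.injective
  have hUF := CfsgLib.TwoNilp.uFour_of_mulEquiv hF P T eP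
  set UT := (center ↥(T : Subgroup ↥(comp S z))).map (T : Subgroup ↥(comp S z)).subtype
  have hinj : ∀ a b : ↥(layerE S z), h.toComp h8 a = h.toComp h8 b → a = b := by
    intro a b e'
    have hk : ((a : ↥(centralizer ({z} : Set G))))⁻¹ * b ∈ cK S z :=
      (QuotientGroup.eq (s := cK S z)).1 (congrArg Subtype.val e')
    exact Subtype.ext (inv_mul_eq_one.1 (h.layerE_inf_core h8 (mul_mem (inv_mem a.2) b.2) hk))
  have hinT : ∀ e : ↥(layerE S z), ((e : ↥(centralizer ({z} : Set G))) : G) ∈ (S : Subgroup G) →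
      h.toComp h8 e ∈ (T : Subgroup ↥(comp S z)) := by
    intro c hc
    obtain ⟨t, ht, hte⟩ := hT.ge ⟨⟨(c : ↥(centralizer ({z} : Set G))), hc, rfl⟩, (h.toComp h8 c).2⟩
    rwa [← show t = h.toComp h8 c from Subtype.ext hte]
  have hsq : ∀ a ∈ piece S z, a * a ∈ vSub S z := by
    intro a ha
    refine (h.piece_central h8).1 ⟨mul_mem ha ha, ?_⟩
    obtain ⟨haS, c, hc, rfl⟩ := ha
    have h1 := hinT ⟨c, hc⟩ haS
    have h2 := hUF.sq_mem _ h1
    have h3 := (hUF.mem_iff _ (hUF.le h2)).1 h2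
    rw [← map_mul, ← map_mul, ← map_one (h.toComp h8)] at h3
    exact congrArg (fun w : ↥(layerE S z) => ((w : ↥(centralizer ({z} : Set G))) : G)) (hinj _ _ h3)
  refine ⟨?_, hsq, ?_⟩
  · obtain ⟨t, ht, htt⟩ : ∃ t ∈ (T : Subgroup ↥(comp S z)), t * t ≠ 1 := by
      by_contra hh
      push Not at hh
      have := Nat.card_congr (Equiv.subtypeUnivEquiv (α := ↥(T : Subgroup ↥(comp S z))) (p := fun t => t * t = 1)
        fun t => Subtype.ext (hh t t.2))
      rw [h4, hUF.cardS] at this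
      omega
    obtain ⟨c, hcS, rfl⟩ := h.exists_piece_lift h8 hT ht
    refine ⟨((c : ↥(centralizer ({z} : Set G))) : G), ⟨hcS, c, c.2, rfl⟩, fun e' => htt ?_, hsq _ ⟨hcS, c, c.2, rfl⟩⟩
    rw [← map_mul, show c * c = 1 from Subtype.ext (Subtype.ext e'), map_one]
  · intro a ha haa u hu
    obtain ⟨haS, c, hc, rfl⟩ := ha
    obtain ⟨⟨huS, d, hd, rfl⟩, huu⟩ := (h.piece_central h8).2 hu
    have h1 := hinT ⟨c, hc⟩ haS
    have h2 : h.toComp h8 ⟨c, hc⟩ ∉ UT := fun hh => haa (by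
      have h3 := (hUF.mem_iff _ h1).1 hh
      rw [← map_mul, ← map_one (h.toComp h8)] at h3
      exact congrArg (fun w : ↥(layerE S z) => ((w : ↥(centralizer ({z} : Set G))) : G)) (hinj _ _ h3))
    have h3 : h.toComp h8 ⟨d, hd⟩ ∈ UT := (hUF.mem_iff _ (hinT ⟨d, hd⟩ huS)).2 (by
      rw [← map_mul, show (⟨d, hd⟩ : ↥(layerE S z)) * ⟨d, hd⟩ = 1 from Subtype.ext (Subtype.ext huu), map_one])
    obtain ⟨t, ht, hte⟩ := hUF.comm_surj _ h1 h2 _ h3
    obtain ⟨b, hbS, rfl⟩ := h.exists_piece_lift h8 hT ht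
    rw [← map_commutatorElement] at hte
    exact ⟨_, ⟨hbS, b, b.2, rfl⟩,
      congrArg (fun w : ↥(layerE S z) => ((w : ↥(centralizer ({z} : Set G))) : G)) (hinj _ _ hte)⟩

end unitary

/-- No element acts on the component as a square root of a central involution modulo the piece. -/
theorem false_of_twist {a w : G} (ha : a ∈ (S : Subgroup G)) (haa : a * a = w) (hw : w ∈ vSub S z)
    (hcomm : ∀ p ∈ piece S z, ⁅a, p⁆ ∈ vSub S z) (hsq : ∀ p ∈ piece S z, p * p ∈ vSub S z)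
    (hne : ∀ p ∈ piece S z, a ≠ p ∧ a ≠ p * z) : False := by
  haveI : Fact (Nat.Prime 2) := ⟨Nat.prime_two⟩
  obtain ⟨hsimple, -, hSE⟩ := h.comp_isSimple h8
  haveI := hsimple
  set π := QuotientGroup.mk' (cK S z)
  set L := comp S z with hL
  haveI : L.Normal := normalClosure_normal
  set H := (cM S z).subgroupOf L with hH
  have hcore : H.normalCore = ⊥ := by
    rcases (inferInstance : H.normalCore.Normal).eq_bot_or_eq_top with e | e
    · exact e
    · exact absurd (top_le_iff.1 (e ▸ H.normalCore_le)) hSE.1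
  obtain ⟨Q, hle, hn, htwo, hreg⟩ := CfsgLib.Bender.Full.fullStatement _ H hSE hcore
    (CfsgLib.Bender.Full.hasPair_of_simple hSE)
  have hD : CfsgLib.SECrit.Shape.Data H Q :=
    ⟨hSE, hcore, CfsgLib.Bender.Full.hasPair_of_simple hSE, hle, hn, htwo, hreg⟩
  obtain ⟨T, hT, -, -⟩ := h.comp_cases h8
  have hTQ : (T : Subgroup ↥L) ≤ Q := by
    intro t ht
    obtain ⟨k, hk⟩ := T.2 ⟨t, ht⟩
    obtain ⟨s, hs, hst⟩ := (hT.le ⟨t, ht, rfl⟩).1
    refine hD.mem_of_two ?_ (congrArg Subtype.val hk)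
    have hm : π s ∈ cM S z := mem_map_of_mem _ (show (s : G) ∈ normalizer ((S : Subgroup G) : Set G) from le_normalizer hs)
    rw [hst] at hm
    exact hm
  have hQT : Q = (T : Subgroup ↥L) := T.3 htwo hTQ
  set a' := h.lift ha
  have haM : π a' ∈ cM S z := mem_map_of_mem _ (show a ∈ normalizer ((S : Subgroup G) : Set G) from le_normalizer ha)
  obtain ⟨g, hg⟩ := hD.exists_notMem
  set l : ↥L := ⟨π a' * (g : Quo S z) * (π a')⁻¹, (inferInstance : L.Normal).conj_mem _ g.2 _⟩ with hl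
  have hlH : l ∉ H := fun hh => hg (by
    have := mul_mem (mul_mem (inv_mem haM) (hh : (l : Quo S z) ∈ cM S z)) haM
    change (π a')⁻¹ * (π a' * (g : Quo S z) * (π a')⁻¹) * π a' ∈ cM S z at this
    rwa [show (π a')⁻¹ * (π a' * (g : Quo S z) * (π a')⁻¹) * π a' = (g : Quo S z) by group] at this)
  obtain ⟨x, ⟨hxQ, hxH⟩, -⟩ := hreg g l hg hlH
  rw [hQT] at hxQ
  obtain ⟨c, hcS, rfl⟩ := h.exists_piece_lift h8 hT hxQ
  set p : G := ((c : ↥(centralizer ({z} : Set G))) : G) with hpdef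
  have hpP : p ∈ piece S z := ⟨hcS, c, c.2, rfl⟩
  set v : ↥(centralizer ({z} : Set G)) := (c : ↥(centralizer ({z} : Set G)))⁻¹ * a' with hv
  have hfix : (g : Quo S z)⁻¹ * π v * g ∈ cM S z := by
    have h1 : (l : Quo S z)⁻¹ * (π c * g) ∈ cM S z := hxH
    have h2 := mul_mem (inv_mem h1) haM
    rw [hl, mul_inv_rev, mul_inv_rev, inv_inv] at h2
    rw [hv, map_mul, map_inv]
    convert h2 using 1
    group
  -- the square of `v`
  have hu : (v : G) * v ∈ vSub S z := by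
    show p⁻¹ * a * (p⁻¹ * a) ∈ vSub S z
    have hcz := vSub_le S z (hcomm _ (inv_mem hpP))
    have hps : (p * p)⁻¹ ∈ vSub S z := inv_mem (hsq p hpP)
    have e : p⁻¹ * a * (p⁻¹ * a) = ⁅a, p⁻¹⁆ * (p * p)⁻¹ * w := by
      have hc := hcz.2.2 p⁻¹ (inv_mem hcS)
      rw [commutatorElement_def, inv_inv] at hc ⊢
      calc p⁻¹ * a * (p⁻¹ * a) = p⁻¹ * (a * p⁻¹ * a⁻¹ * p) * p⁻¹ * (a * a) := by group
        _ = _ := by rw [hc, haa]; group
    rw [e]
    exact mul_mem (mul_mem (hcomm _ (inv_mem hpP)) hps) hw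
  have hgC : ∀ y : ↥(centralizer ({z} : Set G)), (y : G) ∈ (S : Subgroup G) → (y : G) * y = 1 → (y : G) ≠ 1 →
      (y : G) ≠ z → (g : Quo S z)⁻¹ * π y * g ∈ cM S z → False := by
    intro y hy hyy hy1 hyz hy'
    obtain ⟨g', hg'⟩ := QuotientGroup.mk'_surjective (cK S z) (g : Quo S z)
    have hh := h.fuse_cM (g := g'⁻¹) hy hyy hy1 hyz (by rw [map_inv, inv_inv, hg']; exact hy')
    exact hg (show (g : Quo S z) ∈ cM S z from hg' ▸ mem_map_of_mem _ ((inv_mem_iff).1 hh))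
  have hvS : (v : G) ∈ (S : Subgroup G) := mul_mem (inv_mem hcS) ha
  by_cases hu1 : (v : G) * v = 1
  · refine hgC v hvS hu1 (fun e => (hne p hpP).1 ?_) (fun e => (hne p hpP).2 ?_) hfix
    · exact (inv_mul_eq_one.1 e).symm
    · rw [← e]; show a = p * (p⁻¹ * a); rw [mul_inv_cancel_left]
  · refine hgC (v * v) (mul_mem hvS hvS) (vSub_le S z hu).2.1 hu1
      (fun e => not_mem_vSub h.mem h.ne_one (by
        have h' := hu
        rw [show (v : G) * v = z from e] at h'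
        exact h')) ?_
    have := mul_mem hfix hfix
    rwa [show (g : Quo S z)⁻¹ * π v * g * ((g : Quo S z)⁻¹ * π v * g) = (g : Quo S z)⁻¹ * (π v * π v) * g by group,
      ← map_mul] at this

omit h h8 in
/-- The component is not unitary. -/
theorem false_of_unitary [IsSimpleGroup G] (hG : ¬ IsMulCommutative G) {z₀ : G} (h₀ : Bad S z₀)
    (h8 : Nat.card (zSub S) = 8)
    (hU : ∀ z, Bad S z → ∃ (F : Type) (_ : Field F) (_ : Fintype F), Fintype.card F = 16 ∧
        Nonempty (↥(comp S z) ≃* Cfsg.PSU 3 F 4)) : False := by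
  obtain ⟨⟨a, haP, haa1, haaV⟩, -, -⟩ := h₀.piece_facts h8 (hU z₀ h₀)
  obtain ⟨w, hwdef⟩ : ∃ w, w = a * a := ⟨_, rfl⟩
  rw [← hwdef] at haa1 haaV
  have hwY : w ∈ zSub S := vSub_le S z₀ haaV
  have hwz₀ : w ≠ z₀ := fun e => not_mem_vSub h₀.mem h₀.ne_one (e ▸ haaV)
  have hW := h₀.bad_of_mem hG hwY haa1
  obtain ⟨hiffW, horW⟩ := vSub_index hwY haa1 hW.twoOrb (by omega)
  have hnotW := not_mem_vSub hwY haa1
  -- choose `z` with `w` in its hyperplane
  obtain ⟨v, hvV, hv1, hvz⟩ : ∃ v ∈ vSub S w, v ≠ 1 ∧ w * v ≠ z₀ := by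
    obtain ⟨y, hy⟩ := hW.exists_others h8
    obtain ⟨v, hv, hvX⟩ : ∃ v ∈ vSub S w, v ∈ others S w := by
      by_cases hyV : y ∈ vSub S w
      · exact ⟨y, hyV, hy⟩
      · exact ⟨y * w, (hiffW y hy.1 w hwY).2 (iff_of_false hyV hnotW), mul_z_mem hwY hy⟩
    obtain ⟨-, hun, hdis, hcard⟩ := orbit_split hwY haa1 hW.twoOrb hvX
    by_cases e : w * v = z₀
    · obtain ⟨v', hv', hne'⟩ : ∃ v' ∈ orbitSet (zStab S w) v, v' ≠ v := by
        refine Set.exists_ne_of_one_lt_ncard ?_ v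
        by_contra hlt
        have hsub : (zSub S : Set G) ⊆ others S w ∪ {1, w} := fun b hb => by
          by_cases e : b = 1 ∨ b = w
          · exact Or.inr e
          · push Not at e
            exact Or.inl ⟨hb, e.1, e.2⟩
        have h1 := (Set.ncard_le_ncard hsub (Set.toFinite _)).trans (Set.ncard_union_le _ _)
        rw [← Nat.card_coe_set_eq, Set.ncard_pair (Ne.symm haa1)] at h1
        change Nat.card (zSub S) ≤ _ at h1
        omega
      rw [horW v hvX hv] at hv'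
      exact ⟨v', hv'.1, fun e' => hv'.2 e', fun e' => hne' (mul_left_cancel (e'.trans e.symm))⟩
    · exact ⟨v, hv, hvX.2.1, e⟩
  obtain ⟨z, hzdef⟩ : ∃ z, z = w * v := ⟨_, rfl⟩
  have hzY : z ∈ zSub S := hzdef ▸ mul_mem hwY (vSub_le S w hvV)
  have hz1 : z ≠ 1 := fun e => hnotW ((mul_mem_cancel_right hvV).1 (by rw [← hzdef, e]; exact one_mem _))
  have hzw : z ≠ w := fun e => hv1 (mul_left_cancel (a := w) (by rw [← hzdef, e, mul_one]))
  have hzV : z ∉ vSub S w := fun hh => hnotW ((mul_mem_cancel_right hvV).1 (hzdef ▸ hh))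
  have hz := h₀.bad_of_mem hG hzY hz1
  have hwz : w ∈ vSub S z := (vSub_dual hG hz (by omega) hzY hwY hz1 haa1 hzw).2 hzV
  have hzz₀ : z ≠ z₀ := hzdef ▸ hvz
  -- a point of one hyperplane outside the other
  obtain ⟨q, hqV, hqV₀⟩ : ∃ q ∈ vSub S z, q ∉ vSub S z₀ := by
    by_cases e : z₀ ∈ vSub S z
    · exact ⟨z₀, e, not_mem_vSub h₀.mem h₀.ne_one⟩
    · obtain ⟨hiff, -⟩ := vSub_index hzY hz1 hz.twoOrb (by omega)
      have h1 : z ∈ vSub S z₀ := by
        by_contra hh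
        exact e ((vSub_dual hG hz (by omega) hzY h₀.mem hz1 h₀.ne_one hzz₀).2 hh)
      exact ⟨z * z₀, (hiff z hzY z₀ h₀.mem).2 (iff_of_false (not_mem_vSub hzY hz1) e),
        fun hh => not_mem_vSub h₀.mem h₀.ne_one ((mul_mem_cancel_left h1).1 hh)⟩
  obtain ⟨-, hsq, hsurj⟩ := hz.piece_facts h8 (hU z hz)
  have hinter : ∀ c, c ∈ piece S z → c ∈ piece S z₀ → c ∈ vSub S z := by
    intro c hc hc₀
    refine (hz.piece_central h8).1 ⟨hc, ?_⟩
    by_contra hcc
    obtain ⟨b, hb, hbe⟩ := hsurj c hc hcc q hqV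
    refine hqV₀ ((h₀.piece_central h8).1 ⟨hbe ▸ ?_, (vSub_le S z hqV).2.1⟩)
    rw [commutatorElement_def, show c * b * c⁻¹ * b⁻¹ = c * (b * c⁻¹ * b⁻¹) by group]
    exact mul_mem hc₀ (h₀.piece_normal h8 (inv_mem hc₀) hb.1)
  have hcommN : ∀ p ∈ piece S z, ⁅a, p⁆ ∈ piece S z ∧ ⁅a, p⁆ ∈ piece S z₀ := fun p hp => by
    constructor
    · rw [commutatorElement_def]
      exact mul_mem (hz.piece_normal h8 hp haP.1) (inv_mem hp)
    · rw [commutatorElement_def, show a * p * a⁻¹ * p⁻¹ = a * (p * a⁻¹ * p⁻¹) by group]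
      exact mul_mem haP (h₀.piece_normal h8 (inv_mem haP) hp.1)
  refine hz.false_of_twist h8 haP.1 hwdef.symm hwz (fun p hp => hinter _ (hcommN p hp).1 (hcommN p hp).2) hsq
    fun p hp => ⟨fun e => ?_, fun e => ?_⟩
  · exact haa1 (hwdef.trans (vSub_le S z (hinter a (e ▸ hp) haP)).2.1)
  · have hpp : p * p ≠ 1 := fun e' => haa1 (by
      rw [hwdef, e]
      calc p * z * (p * z) = p * z * (z * p) := by rw [hzY.2.2 p hp.1]
        _ = p * (z * z) * p := by group
        _ = 1 := by rw [hzY.2.1, mul_one, e'])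
    obtain ⟨b, hb, hbe⟩ := hsurj p hp hpp q hqV
    refine hqV₀ ((h₀.piece_central h8).1 ⟨?_, (vSub_le S z hqV).2.1⟩)
    rw [← hbe, show ⁅p, b⁆ = ⁅a, b⁆ from ?_]
    · exact (hcommN b hb).2
    · have hzb : z * b = b * z := (hzY.2.2 b hb.1).symm
      rw [commutatorElement_def, commutatorElement_def, e]
      calc p * b * p⁻¹ * b⁻¹ = p * (b * z) * z⁻¹ * p⁻¹ * b⁻¹ := by group
        _ = p * z * b * (p * z)⁻¹ * b⁻¹ := by rw [← hzb]; group

end Bad

end CfsgLib.CentInt
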