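import Cfsg.Agent.Lib.Invol.CentralInter.Five
import Cfsg.Agent.Lib.Invol.CentralInter.Unitary
import Cfsg.Agent.Lib.CIT.UFourFive.Main

/-!
# Simple groups with central intersections of rank at most one
-/

set_option autoImplicit false
set_option linter.style.haveILetI false
set_option linter.unusedSectionVars false

open Subgroup

namespace CfsgLib.CentInt

open CfsgLib.Invol

universe u

variable {G : Type u} [Group G] [Finite G]

theorem coreThm : CoreThm.{u} := fun _ _ _ _ hG _ _ _ h => CfsgLib.UFourFive.centralizer_le hG h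

/-- The bad case. -/
theorem Bad.classify [IsSimpleGroup G] (hG : ¬ IsMulCommutative G) {S : Sylow 2 G} {z : G} (h : Bad S z) :
    (∃ (F : Type) (_ : Field F) (_ : Fintype F), (Fintype.card F % 8 = 3 ∨ Fintype.card F % 8 = 5) ∧
        5 < Fintype.card F ∧ Nonempty (G ≃* Matrix.ProjectiveSpecialLinearGroup (Fin 2) F)) ∨
      Cfsg.IsJ1 G := by
  rcases card_zSub_le hG h with h4 | h8
  · exact Or.inl (h.psl_of_four hG (h.card_sylow_four hG coreThm h4) h4)
  by_cases hA : ∃ z', ∃ _ : Bad S z', ∃ (F : Type) (_ : Field F) (_ : Fintype F), Fintype.card F = 4 ∧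
      Nonempty (↥(Bad.comp S z') ≃* Matrix.ProjectiveSpecialLinearGroup (Fin 2) F)
  · obtain ⟨z', h', F, iF, iF', hF, ⟨e⟩⟩ := hA
    exact Or.inr (h'.isJ1_of_five hG h8 hF e)
  refine (Bad.false_of_unitary hG h h8 fun z' h' => ?_).elim
  obtain ⟨T, -, -, hc⟩ := h'.comp_cases h8
  rcases hc with ⟨F, iF, iF', hF, -, he⟩ | hc
  · exact absurd ⟨z', h', F, iF, iF', hF, he⟩ hA
  · exact hc

end CfsgLib.CentInt
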