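import Cfsg.Agent.Lib.Invol.CentralInter.Quot

/-!
# The action of `N(S)` on the central involutions
-/

set_option autoImplicit false
set_option linter.style.haveILetI false
set_option linter.unusedSectionVars false

open Subgroup

namespace CfsgLib.CentInt

open CfsgLib.Invol

universe u

variable {G : Type u} [Group G] [Finite G]

/-- An element of `N(S)` has an odd power acting trivially on the central involutions. -/
theorem exists_odd_pow_fix {S : Sylow 2 G} {m : G} (hm : m ∈ normalizer ((S : Subgroup G) : Set G)) :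
    ∃ r : ℕ, Odd r ∧ ∀ y ∈ zSub S, m ^ r * y * (m ^ r)⁻¹ = y := by
  obtain ⟨k, r, hr, hn⟩ := Nat.exists_eq_two_pow_mul_odd (orderOf_pos m).ne'
  refine ⟨r, hr, fun y hy => ?_⟩
  have h1 : m ^ r ∈ (S : Subgroup G) := by
    refine mem_sylow_of_normalizer (k := k) (pow_mem hm r) ?_
    rw [← pow_mul, mul_comm, ← hn, pow_orderOf_eq_one]
  rw [hy.2.2 _ h1, mul_inv_cancel_right]

/-- No element of `N(S)` interchanges two central involutions. -/
theorem no_swap {S : Sylow 2 G} {m a b : G} (hm : m ∈ normalizer ((S : Subgroup G) : Set G))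
    (ha : a ∈ zSub S) (h1 : m * a * m⁻¹ = b) (h2 : m * b * m⁻¹ = a) : a = b := by
  obtain ⟨r, ⟨i, rfl⟩, hfix⟩ := exists_odd_pow_fix hm
  have key : ∀ j : ℕ, m ^ (2 * j) * a * (m ^ (2 * j))⁻¹ = a := by
    intro j
    induction j with
    | zero => simp
    | succ j ih =>
      rw [show 2 * (j + 1) = 2 + 2 * j by omega, pow_add]
      calc m ^ 2 * m ^ (2 * j) * a * (m ^ 2 * m ^ (2 * j))⁻¹
          = m ^ 2 * (m ^ (2 * j) * a * (m ^ (2 * j))⁻¹) * (m ^ 2)⁻¹ := by group
        _ = m * (m * a * m⁻¹) * m⁻¹ := by rw [ih, pow_two]; group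
        _ = a := by rw [h1, h2]
  have h := hfix a ha
  rw [show 2 * i + 1 = 1 + 2 * i by omega, pow_add, pow_one] at h
  calc a = m * m ^ (2 * i) * a * (m * m ^ (2 * i))⁻¹ := h.symm
    _ = m * (m ^ (2 * i) * a * (m ^ (2 * i))⁻¹) * m⁻¹ := by group
    _ = b := by rw [key i, h1]

theorem conj_mem_zSub_of_normalizer {S : Sylow 2 G} {m y : G} (hm : m ∈ normalizer ((S : Subgroup G) : Set G))
    (hy : y ∈ zSub S) : m * y * m⁻¹ ∈ zSub S := by
  refine ⟨(mem_set_normalizer_iff.1 hm y).1 hy.1, ?_, fun s hs => ?_⟩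
  · calc m * y * m⁻¹ * (m * y * m⁻¹) = m * (y * y) * m⁻¹ := by group
      _ = 1 := by rw [hy.2.1]; group
  · have hs' : m⁻¹ * s * m ∈ (S : Subgroup G) := by
      have := (mem_set_normalizer_iff.1 (inv_mem hm) s).1 hs
      rw [inv_inv] at this
      exact this
    calc s * (m * y * m⁻¹) = m * (m⁻¹ * s * m * y) * m⁻¹ := by group
      _ = m * (y * (m⁻¹ * s * m)) * m⁻¹ := by rw [hy.2.2 _ hs']
      _ = m * y * m⁻¹ * s := by group

/-- The orbit of a central involution. -/
def orbitSet (H : Subgroup G) (a : G) : Set G := {b | ∃ m ∈ H, m * a * m⁻¹ = b}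

theorem mem_orbitSet_self (H : Subgroup G) (a : G) : a ∈ orbitSet H a := ⟨1, one_mem _, by group⟩

theorem orbitSet_eq {H : Subgroup G} {a b : G} (hb : b ∈ orbitSet H a) : orbitSet H b = orbitSet H a := by
  obtain ⟨m, hm, rfl⟩ := hb
  ext c
  constructor
  · rintro ⟨n, hn, rfl⟩
    exact ⟨n * m, mul_mem hn hm, by group⟩
  · rintro ⟨n, hn, rfl⟩
    exact ⟨n * m⁻¹, mul_mem hn (inv_mem hm), by group⟩

/-- Orbits in `N(S)` on central involutions have odd length. -/
theorem odd_orbit {S : Sylow 2 G} {H : Subgroup G} (hH : H ≤ normalizer ((S : Subgroup G) : Set G)) {a : G}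
    (ha : a ∈ zSub S) : Odd (orbitSet H a).ncard := by
  classical
  letI : MulAction H ↥(zSub S) :=
    { smul := fun m y => ⟨(m : G) * y * (m : G)⁻¹, conj_mem_zSub_of_normalizer (hH m.2) y.2⟩
      mul_smul := fun m n y => Subtype.ext (by
        show ((m : G) * n) * y * ((m : G) * n)⁻¹ = (m : G) * ((n : G) * y * (n : G)⁻¹) * (m : G)⁻¹
        group)
      one_smul := fun y => Subtype.ext (by show (1 : G) * y * (1 : G)⁻¹ = y; group) }
  set R := (MulAction.toPermHom H ↥(zSub S)).range with hR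
  have hodd : Odd (Nat.card R) := by
    rw [← Nat.not_even_iff_odd, even_iff_two_dvd]
    intro hd
    obtain ⟨⟨w, m, rfl⟩, hw⟩ := exists_prime_orderOf_dvd_card' (G := R) 2 hd
    obtain ⟨r, hr, hfix⟩ := exists_odd_pow_fix (hH m.2)
    have e : MulAction.toPermHom H ↥(zSub S) m ^ r = 1 := by
      rw [← map_pow]
      refine Equiv.ext fun y => Subtype.ext ?_
      show ((m ^ r : H) : G) * y * ((m ^ r : H) : G)⁻¹ = y
      rw [Subgroup.coe_pow]
      exact hfix y y.2
    rw [← Subgroup.orderOf_coe] at hw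
    change orderOf (MulAction.toPermHom H ↥(zSub S) m) = 2 at hw
    have := hw ▸ orderOf_dvd_of_pow_eq_one e
    exact Nat.not_even_iff_odd.2 hr (even_iff_two_dvd.2 this)
  have himg : orbitSet H a = (fun y : ↥(zSub S) => (y : G)) '' MulAction.orbit R (⟨a, ha⟩ : ↥(zSub S)) := by
    ext b
    constructor
    · rintro ⟨m, hm, rfl⟩
      exact ⟨⟨m * a * m⁻¹, conj_mem_zSub_of_normalizer (hH hm) ha⟩,
        ⟨⟨_, ⟨m, hm⟩, rfl⟩, rfl⟩, rfl⟩
    · rintro ⟨_, ⟨⟨_, m, rfl⟩, rfl⟩, rfl⟩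
      exact ⟨m, m.2, rfl⟩
  rw [himg, Set.ncard_image_of_injective _ Subtype.val_injective, ← Nat.card_coe_set_eq]
  refine hodd.of_dvd_nat ?_
  rw [Nat.card_congr (MulAction.orbitEquivQuotientStabilizer R _), ← Subgroup.index_eq_card]
  exact index_dvd_card _

/-- `C(z) ⊓ N(S)`. -/
abbrev zStab (S : Sylow 2 G) (z : G) : Subgroup G :=
  centralizer ({z} : Set G) ⊓ normalizer ((S : Subgroup G) : Set G)

theorem mem_zStab {S : Sylow 2 G} {z m : G} :
    m ∈ zStab S z ↔ m * z = z * m ∧ m ∈ normalizer ((S : Subgroup G) : Set G) := by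
  rw [zStab, mem_inf, mem_centralizer_singleton_iff]

/-- Two orbits of the stabilizer. -/
def TwoOrb (S : Sylow 2 G) (z : G) : Prop :=
  ∀ y ∈ zSub S, y ≠ 1 → y ≠ z → ∀ y' ∈ zSub S, y' ≠ 1 → y' ≠ z →
    ∃ m ∈ zStab S z, m * y * m⁻¹ = y' ∨ m * y * m⁻¹ = y' * z

variable {S : Sylow 2 G} {z : G}

theorem conj_z_of_stab {m : G} (hm : m ∈ zStab S z) : m * z * m⁻¹ = z := by
  rw [(mem_zStab.1 hm).1, mul_inv_cancel_right]

theorem stab_ne {m y : G} (hm : m ∈ zStab S z) (hy1 : y ≠ 1) (hyz : y ≠ z) :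
    m * y * m⁻¹ ≠ 1 ∧ m * y * m⁻¹ ≠ z := by
  refine ⟨fun e => hy1 ?_, fun e => hyz ?_⟩
  · rw [show y = m⁻¹ * (m * y * m⁻¹) * m by group, e]; group
  · exact mul_left_cancel (mul_right_cancel (e.trans (conj_z_of_stab hm).symm))

/-- The set of central involutions other than `z`. -/
def others (S : Sylow 2 G) (z : G) : Set G := {y | y ∈ zSub S ∧ y ≠ 1 ∧ y ≠ z}

theorem mul_z_mem (hz : z ∈ zSub S) {y : G} (hy : y ∈ others S z) : y * z ∈ others S z := by
  refine ⟨mul_mem hy.1 hz, fun e => hy.2.2 ?_, fun e => hy.2.1 ?_⟩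
  · exact (eq_inv_of_mul_eq_one_left e).trans (inv_eq_of_mul_eq_one_left hz.2.1)
  · exact mul_right_cancel (e.trans (one_mul z).symm)

/-- The two orbits. -/
theorem orbit_split (hz : z ∈ zSub S) (hz1 : z ≠ 1) (h2 : TwoOrb S z) {y : G} (hy : y ∈ others S z) :
    orbitSet (zStab S z) y ⊆ others S z ∧
    others S z = orbitSet (zStab S z) y ∪ orbitSet (zStab S z) (y * z) ∧
    Disjoint (orbitSet (zStab S z) y) (orbitSet (zStab S z) (y * z)) ∧
    (others S z).ncard = 2 * (orbitSet (zStab S z) y).ncard := by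
  set K := zStab S z with hK
  have hsub : ∀ a ∈ others S z, orbitSet K a ⊆ others S z := by
    rintro a ha _ ⟨m, hm, rfl⟩
    exact ⟨conj_mem_zSub_of_normalizer (mem_zStab.1 hm).2 ha.1, stab_ne hm ha.2.1 ha.2.2⟩
  have hshift : orbitSet K (y * z) = (fun b => b * z) '' orbitSet K y := by
    ext c
    constructor
    · rintro ⟨m, hm, rfl⟩
      refine ⟨m * y * m⁻¹, ⟨m, hm, rfl⟩, ?_⟩
      show m * y * m⁻¹ * z = _
      conv_lhs => rw [← conj_z_of_stab hm]
      group
    · rintro ⟨_, ⟨m, hm, rfl⟩, rfl⟩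
      refine ⟨m, hm, ?_⟩
      show _ = m * y * m⁻¹ * z
      conv_rhs => rw [← conj_z_of_stab hm]
      group
  have hun : others S z = orbitSet K y ∪ orbitSet K (y * z) := by
    refine Set.Subset.antisymm (fun a ha => ?_) (Set.union_subset (hsub y hy) (hsub _ (mul_z_mem hz hy)))
    obtain ⟨m, hm, e | e⟩ := h2 y hy.1 hy.2.1 hy.2.2 a ha.1 ha.2.1 ha.2.2
    · exact Or.inl ⟨m, hm, e⟩
    · refine Or.inr (hshift ▸ ⟨a * z, ⟨m, hm, e⟩, ?_⟩)
      show a * z * z = a
      rw [mul_assoc, hz.2.1, mul_one]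
  have hcard : (orbitSet K (y * z)).ncard = (orbitSet K y).ncard := by
    rw [hshift, Set.ncard_image_of_injective _ fun a b e => mul_right_cancel e]
  have hodd := odd_orbit (H := K) inf_le_right hy.1
  have hev : Even (others S z).ncard := by
    have h1 : others S z = ((zSub S : Set G) \ {1, z}) := by
      ext a
      simp [others, not_or]
    have h2' : ({1, z} : Set G) ⊆ (zSub S : Set G) := by
      intro a ha
      rcases ha with rfl | rfl
      · exact one_mem _
      · exact hz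
    rw [h1, Set.ncard_diff h2' (Set.toFinite _), Set.ncard_pair hz1.symm, ← Nat.card_coe_set_eq]
    have hdvd : 2 ∣ Nat.card (zSub S) := by
      have := orderOf_dvd_natCard (⟨z, hz⟩ : zSub S)
      rwa [Subgroup.orderOf_mk, invol_iff.2 ⟨hz.2.1, hz1⟩] at this
    change Even (Nat.card (zSub S) - 2)
    rw [even_iff_two_dvd]
    omega
  have hdis : Disjoint (orbitSet K y) (orbitSet K (y * z)) := by
    rw [Set.disjoint_left]
    intro a h1 h2'
    have e : orbitSet K (y * z) = orbitSet K y := (orbitSet_eq h2').symm.trans (orbitSet_eq h1)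
    rw [hun, e, Set.union_self] at hev
    exact Nat.not_even_iff_odd.2 hodd hev
  refine ⟨hsub y hy, hun, hdis, ?_⟩
  rw [hun, Set.ncard_union_eq hdis (Set.toFinite _) (Set.toFinite _), hcard]
  ring

/-- `N(S)` is transitive on the central involutions. -/
theorem transitive (hz : z ∈ zSub S) (hz1 : z ≠ 1) (h2 : TwoOrb S z)
    (hmove : ∃ n ∈ normalizer ((S : Subgroup G) : Set G), n * z * n⁻¹ ≠ z) {w : G} (hw : w ∈ zSub S)
    (hw1 : w ≠ 1) : ∃ n ∈ normalizer ((S : Subgroup G) : Set G), n * z * n⁻¹ = w := by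
  obtain ⟨n, hn, hnz⟩ := hmove
  set M := normalizer ((S : Subgroup G) : Set G)
  have hyX : n * z * n⁻¹ ∈ others S z :=
    ⟨conj_mem_zSub_of_normalizer hn hz, fun e => hz1 (by rw [show z = n⁻¹ * (n * z * n⁻¹) * n by group, e]; group), hnz⟩
  obtain ⟨y, hy⟩ : ∃ y, y = n * z * n⁻¹ := ⟨_, rfl⟩
  rw [← hy] at hyX
  obtain ⟨hsub, hun, hdis, -⟩ := orbit_split hz hz1 h2 hyX
  show w ∈ orbitSet M z
  by_cases hwz : w = z
  · exact hwz ▸ mem_orbitSet_self M z
  have hle : ∀ a, a ∈ orbitSet M z → orbitSet (zStab S z) a ⊆ orbitSet M z := by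
    rintro _ ⟨m, hm, rfl⟩ _ ⟨k, hk, rfl⟩
    exact ⟨k * m, mul_mem (mem_zStab.1 hk).2 hm, by group⟩
  have hin : orbitSet (zStab S z) y ⊆ orbitSet M z := hle y ⟨n, hn, hy.symm⟩
  have hwX : w ∈ others S z := ⟨hw, hw1, hwz⟩
  rw [hun] at hwX
  rcases hwX with h | h
  · exact hin h
  by_contra hcon
  have heq : orbitSet M z = insert z (orbitSet (zStab S z) y) := by
    refine Set.Subset.antisymm ?_ (Set.insert_subset (mem_orbitSet_self M z) hin)
    rintro _ ⟨m, hm, rfl⟩
    by_cases e : m * z * m⁻¹ = z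
    · exact Set.mem_insert_iff.2 (Or.inl e)
    have hX : m * z * m⁻¹ ∈ others S z :=
      ⟨conj_mem_zSub_of_normalizer hm hz, fun e' => hz1 (by rw [show z = m⁻¹ * (m * z * m⁻¹) * m by group, e']; group), e⟩
    rw [hun] at hX
    rcases hX with h' | h'
    · exact Set.mem_insert_of_mem _ h'
    · exfalso
      refine hcon (hle _ ⟨m, hm, rfl⟩ ?_)
      rw [orbitSet_eq h']
      exact h
  have h1 := odd_orbit (S := S) (H := M) le_rfl hz
  rw [heq, Set.ncard_insert_of_notMem (fun hh => (hsub hh).2.2 rfl)] at h1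
  exact Nat.not_even_iff_odd.2 h1 (odd_orbit (H := zStab S z) inf_le_right hyX.1).add_one

end CfsgLib.CentInt
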