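import Cfsg.Agent.Lib.Invol.CentralInter.Basic
import Cfsg.Agent.Lib.Invol.ZStar
import Cfsg.Agent.Lib.Invol.StronglyEmbeddedOrbits
import Cfsg.Agent.Lib.Coprime.Action
import Cfsg.Agent.Lib.Coprime.Core

/-!
# A centralizer of a central involution outside `N(S)`, modulo its core
-/

set_option autoImplicit false
set_option linter.style.haveILetI false
set_option linter.unusedSectionVars false

open Subgroup

namespace CfsgLib.CentInt

open CfsgLib.Invol

universe u

variable {G : Type u} [Group G] [Finite G]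

/-- The normalizer of `S` inside the centralizer of `z`. -/
abbrev cN (S : Sylow 2 G) (z : G) : Subgroup ↥(centralizer ({z} : Set G)) :=
  (normalizer ((S : Subgroup G) : Set G)).subgroupOf (centralizer ({z} : Set G))

/-- The largest normal subgroup of `C(z)` inside `N(S)`. -/
abbrev cK (S : Sylow 2 G) (z : G) : Subgroup ↥(centralizer ({z} : Set G)) := (cN S z).normalCore

/-- The image of `N(S)` in the quotient. -/
abbrev cM (S : Sylow 2 G) (z : G) : Subgroup (↥(centralizer ({z} : Set G)) ⧸ cK S z) :=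
  (cN S z).map (QuotientGroup.mk' (cK S z))

/-- A central involution of `S` with centralizer outside `N(S)`. -/
structure Bad (S : Sylow 2 G) (z : G) : Prop where
  hyp : CIHyp G
  mem : z ∈ zSub S
  ne_one : z ≠ 1
  bad : ¬ centralizer ({z} : Set G) ≤ normalizer ((S : Subgroup G) : Set G)

variable {S : Sylow 2 G} {z : G}

namespace Bad

variable (h : Bad S z)
include h

theorem orderOf_z : orderOf z = 2 := invol_iff.2 ⟨h.mem.2.1, h.ne_one⟩

theorem sylow_le : (S : Subgroup G) ≤ centralizer ({z} : Set G) := fun _ hs =>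
  mem_centralizer_singleton_iff.2 (h.mem.2.2 _ hs)

theorem cN_ne_top : cN S z ≠ ⊤ := fun e => h.bad (subgroupOf_eq_top.1 e)

/-- The lift of an element of `S`. -/
def lift {x : G} (hx : x ∈ (S : Subgroup G)) : ↥(centralizer ({z} : Set G)) := ⟨x, h.sylow_le hx⟩

theorem fuse_cN {x g : ↥(centralizer ({z} : Set G))} (hxS : (x : G) ∈ (S : Subgroup G))
    (hx : (x : G) * x = 1) (hx1 : (x : G) ≠ 1) (hxz : (x : G) ≠ z) (hg : g * x * g⁻¹ ∈ cN S z) :
    g ∈ cN S z :=
  fuse h.hyp h.mem h.ne_one hxS hx hx1 hxz (mem_centralizer_singleton_iff.1 g.2) hg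

theorem notMem_cK {x : ↥(centralizer ({z} : Set G))} (hxS : (x : G) ∈ (S : Subgroup G))
    (hx : (x : G) * x = 1) (hx1 : (x : G) ≠ 1) (hxz : (x : G) ≠ z) : x ∉ cK S z := fun hk =>
  h.cN_ne_top (eq_top_iff.2 fun g _ => h.fuse_cN hxS hx hx1 hxz (hk g))

/-- Fusion modulo the core. -/
theorem fuse_cM {x g : ↥(centralizer ({z} : Set G))} (hxS : (x : G) ∈ (S : Subgroup G))
    (hx : (x : G) * x = 1) (hx1 : (x : G) ≠ 1) (hxz : (x : G) ≠ z)
    (hg : QuotientGroup.mk' (cK S z) g * QuotientGroup.mk' (cK S z) x * (QuotientGroup.mk' (cK S z) g)⁻¹ ∈ cM S z) :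
    g ∈ cN S z := by
  refine h.fuse_cN hxS hx hx1 hxz ?_
  rw [← map_inv, ← map_mul, ← map_mul] at hg
  obtain ⟨n, hn, e⟩ := hg
  have hk := (QuotientGroup.eq (s := cK S z)).1 e
  have h2 := mul_mem hn (normalCore_le _ hk)
  rwa [mul_inv_cancel_left] at h2

/-- Centralizers modulo the core. -/
theorem centralizer_le_cM {x : ↥(centralizer ({z} : Set G))} (hxS : (x : G) ∈ (S : Subgroup G))
    (hx : (x : G) * x = 1) (hx1 : (x : G) ≠ 1) (hxz : (x : G) ≠ z) :
    centralizer ({QuotientGroup.mk' (cK S z) x} : Set (↥(centralizer ({z} : Set G)) ⧸ cK S z)) ≤ cM S z := by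
  intro c hc
  obtain ⟨g, rfl⟩ := QuotientGroup.mk'_surjective _ c
  refine mem_map_of_mem _ (h.fuse_cM hxS hx hx1 hxz ?_)
  rw [mem_centralizer_singleton_iff.1 hc, mul_inv_cancel_right]
  exact mem_map_of_mem _ (show (x : G) ∈ normalizer ((S : Subgroup G) : Set G) from le_normalizer hxS)

theorem cM_ne_top : cM S z ≠ ⊤ := fun e => h.cN_ne_top <| eq_top_iff.2 fun g _ => by
  have hg : QuotientGroup.mk' (cK S z) g ∈ cM S z := e ▸ mem_top _
  obtain ⟨n, hn, en⟩ := hg
  have h2 := mul_mem hn (normalCore_le _ ((QuotientGroup.eq (s := cK S z)).1 en))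
  rwa [mul_inv_cancel_left] at h2

theorem cM_core : (cM S z).normalCore = ⊥ := by
  set π := QuotientGroup.mk' (cK S z)
  have hle : (cM S z).normalCore.comap π ≤ cN S z := fun g hg => by
    obtain ⟨n, hn, en⟩ := normalCore_le _ (mem_comap.1 hg)
    have h2 := mul_mem hn (normalCore_le _ ((QuotientGroup.eq (s := cK S z)).1 en))
    rwa [mul_inv_cancel_left] at h2
  rw [eq_bot_iff]
  intro c hc
  obtain ⟨g, rfl⟩ := QuotientGroup.mk'_surjective _ c
  have : g ∈ cK S z := (normal_le_normalCore.2 hle : _ ≤ cK S z) hc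
  exact mem_bot.2 ((QuotientGroup.eq_one_iff g).2 this)

/-- Two central involutions with the same image differ by a power of `z`. -/
theorem eq_or_eq_mul {a b : G} (ha : a ∈ zSub S) (hb : b ∈ zSub S)
    (e : QuotientGroup.mk' (cK S z) (h.lift ha.1) = QuotientGroup.mk' (cK S z) (h.lift hb.1)) :
    a = b ∨ a = b * z := by
  by_contra hh
  push Not at hh
  have hk := (QuotientGroup.eq (s := cK S z)).1 e
  have hab := mul_mem (inv_mem ha) hb
  refine h.notMem_cK (x := (h.lift ha.1)⁻¹ * h.lift hb.1) hab.1 hab.2.1 ?_ ?_ hk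
  · exact fun e' => hh.1 (inv_mul_eq_one.1 e')
  · intro e'
    have e2 : a⁻¹ * b = z := e'
    rw [inv_mul_eq_iff_eq_mul] at e2
    exact hh.2 (by rw [e2, mul_assoc, h.mem.2.1, mul_one])

theorem image_invol {x : ↥(centralizer ({z} : Set G))} (hxS : (x : G) ∈ (S : Subgroup G))
    (hx : (x : G) * x = 1) (hx1 : (x : G) ≠ 1) (hxz : (x : G) ≠ z) :
    orderOf (QuotientGroup.mk' (cK S z) x) = 2 := by
  refine invol_iff.2 ⟨?_, fun e => h.notMem_cK hxS hx hx1 hxz ((QuotientGroup.eq_one_iff x).1 e)⟩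
  rw [← map_mul, show x * x = 1 from Subtype.ext hx, map_one]

/-- The criterion in the quotient. -/
theorem crit {y : G} (hy : y ∈ zSub S) (hy1 : y ≠ 1) (hyz : y ≠ z) :
    CfsgLib.SECrit.Crit (cM S z) (QuotientGroup.mk' (cK S z) (h.lift hy.1)) := by
  haveI : Fact (Nat.Prime 2) := ⟨Nat.prime_two⟩
  set π := QuotientGroup.mk' (cK S z) with hπ
  set x := h.lift hy.1 with hx
  refine ⟨h.image_invol hy.1 hy.2.1 hy1 hyz, mem_map_of_mem _ (show y ∈ normalizer ((S : Subgroup G) : Set G) from le_normalizer hy.1), ?_, fun g hg => ?_, fun g hc hne => ?_⟩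
  · have hle : (centralizer ({x} : Set ↥(centralizer ({z} : Set G)))).map π ≤
        centralizer ({π x} : Set (↥(centralizer ({z} : Set G)) ⧸ cK S z)) := by
      rintro _ ⟨g, hg, rfl⟩
      rw [mem_centralizer_singleton_iff, ← map_mul, mem_centralizer_singleton_iff.1 hg, map_mul]
    have hodd : Odd (centralizer ({x} : Set ↥(centralizer ({z} : Set G)))).index :=
      CfsgLib.SECrit.odd_index_of_sylow_le (S.subtype h.sylow_le) fun s hs =>
        mem_centralizer_singleton_iff.2 (Subtype.ext (hy.2.2 _ hs))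
    exact hodd.of_dvd_nat (((index_dvd_of_le hle).trans (index_map_dvd _ (QuotientGroup.mk'_surjective _))))
  · obtain ⟨g', rfl⟩ := QuotientGroup.mk'_surjective _ g
    exact mem_map_of_mem _ (h.fuse_cM hy.1 hy.2.1 hy1 hyz hg)
  · obtain ⟨g', rfl⟩ := QuotientGroup.mk'_surjective _ g
    have hg' : g' ∈ cN S z := h.fuse_cM hy.1 hy.2.1 hy1 hyz
      (h.centralizer_le_cM hy.1 hy.2.1 hy1 hyz (mem_centralizer_singleton_iff.2 hc.symm.eq))
    have hinS : (g' : G) * y * (g' : G)⁻¹ ∈ (S : Subgroup G) := (mem_set_normalizer_iff.1 hg' y).1 hy.1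
    have hY' := conj_mem_zSub h.hyp hy hy1 hinS
    have hyo : orderOf y = 2 := invol_iff.2 ⟨hy.2.1, hy1⟩
    have hne1 : h.lift hy.1 * (g' * x * g'⁻¹) ∉ cK S z := by
      intro hk
      apply hne
      rw [← map_inv, ← map_mul, ← map_mul]
      refine ((QuotientGroup.eq (s := cK S z)).2 ?_).symm
      rwa [show x⁻¹ = x from inv_eq_of_mul_eq_one_left (Subtype.ext hy.2.1)]
    have hne0 : y * ((g' : G) * y * (g' : G)⁻¹) ≠ 1 := fun e => hne1 (by
      rw [show h.lift hy.1 * (g' * x * g'⁻¹) = 1 from Subtype.ext e]; exact one_mem _)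
    have hnez : y * ((g' : G) * y * (g' : G)⁻¹) ≠ z := fun e => hne1 (by
      refine (normal_le_normalCore (H := cN S z) (N := zpowers ⟨z, mem_centralizer_singleton_iff.2 rfl⟩)
        (hN := ⟨fun n hn c => ?_⟩)).2 ?_ (show _ ∈ zpowers (⟨z, mem_centralizer_singleton_iff.2 rfl⟩ : ↥(centralizer ({z} : Set G))) from ?_)
      · obtain ⟨i, rfl⟩ := hn
        refine ⟨i, Subtype.ext ?_⟩
        show z ^ i = (c : G) * z ^ i * (c : G)⁻¹
        rw [((mem_centralizer_singleton_iff.1 c.2 : (c : G) * z = z * c) |> fun e => (Commute.zpow_right e i)).eq, mul_inv_cancel_right]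
      · rw [zpowers_le]
        exact le_normalizer h.mem.1
      · rw [show h.lift hy.1 * (g' * x * g'⁻¹) = ⟨z, mem_centralizer_singleton_iff.2 rfl⟩ from Subtype.ext e]
        exact mem_zpowers _)
    have key := h.centralizer_le_cM (x := x * (g' * x * g'⁻¹)) (mul_mem hy hY').1 (mul_mem hy hY').2.1 hne0 hnez
    rwa [map_mul, map_mul, map_mul, map_inv] at key

/-- The quotient has no odd core when `S` has a four group of involutions avoiding `z`. -/
theorem core_eq_bot {a c : G} (haS : a ∈ (S : Subgroup G)) (hcS : c ∈ (S : Subgroup G))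
    (ha : a * a = 1) (hc : c * c = 1) (ha1 : a ≠ 1) (hc1 : c ≠ 1) (hac : Commute a c) (hne : a ≠ c)
    (haz : a ≠ z) (hcz : c ≠ z) (hacz : a * c ≠ z) :
    Cfsg.pPrimeCore 2 (↥(centralizer ({z} : Set G)) ⧸ cK S z) = ⊥ := by
  haveI : Fact (Nat.Prime 2) := ⟨Nat.prime_two⟩
  set π := QuotientGroup.mk' (cK S z) with hπ
  set a' := h.lift haS
  set c' := h.lift hcS
  have hac' : Commute a' c' := Subtype.ext hac.eq
  have hacS : ((a' * c' : ↥(centralizer ({z} : Set G))) : G) * (a' * c' : ↥(centralizer ({z} : Set G))) = 1 := by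
    show a * c * (a * c) = 1
    rw [hac.symm.mul_mul_mul_comm, ha, hc, one_mul]
  have hac1 : a * c ≠ 1 := fun e => hne ((eq_inv_of_mul_eq_one_left e).trans (inv_eq_of_mul_eq_one_left hc))
  have ea := invol_mul_self (h.image_invol (x := a') haS ha ha1 haz)
  have ec := invol_mul_self (h.image_invol (x := c') hcS hc hc1 hcz)
  set A := fourSub (π a') (π c') ea ec (hac'.map π) with hA
  have hAsq : ∀ x ∈ A, x * x = 1 := by
    intro x hx
    rcases mem_fourSub.1 hx with rfl | rfl | rfl | rfl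
    · exact one_mul 1
    · exact ea
    · exact ec
    · rw [(hac'.map π).symm.mul_mul_mul_comm, ea, ec, one_mul]
  have hAcomm : ∀ x ∈ A, ∀ y ∈ A, x * y = y * x := fun x hx y hy => by
    have h' := hAsq _ (mul_mem hx hy)
    rw [← inv_eq_of_mul_eq_one_left h', mul_inv_rev, inv_eq_of_mul_eq_one_left (hAsq x hx),
      inv_eq_of_mul_eq_one_left (hAsq y hy)]
  haveI : IsMulCommutative A := ⟨⟨fun x y => Subtype.ext (hAcomm _ x.2 _ y.2)⟩⟩
  have hne' : π a' ≠ π c' := by
    intro e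
    have e1 : π (a' * c') = 1 := by rw [map_mul, e, ec]
    exact invol_ne_one (h.image_invol (x := a' * c') (mul_mem haS hcS) hacS hac1 hacz) e1
  have hAnc : ¬ IsCyclic A := by
    intro hcy
    obtain ⟨g, hg⟩ := hcy.exists_generator
    have hg2 : g ^ 2 = 1 := Subtype.ext (by rw [Subgroup.coe_pow, pow_two]; exact hAsq _ g.2)
    have hall : ∀ x : A, x = 1 ∨ x = g := fun x => by
      obtain ⟨i, rfl⟩ := hg x
      rcases Int.even_or_odd i with ⟨j, rfl⟩ | ⟨j, rfl⟩
      · left
        show g ^ (j + j) = 1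
        rw [← two_mul, zpow_mul, zpow_two, ← pow_two, hg2, one_zpow]
      · right
        show g ^ (2 * j + 1) = g
        rw [zpow_add, zpow_mul, zpow_two, ← pow_two, hg2, one_zpow, one_mul, zpow_one]
    have m1 : π a' ∈ A := mem_fourSub.2 (Or.inr (Or.inl rfl))
    have m2 : π c' ∈ A := mem_fourSub.2 (Or.inr (Or.inr (Or.inl rfl)))
    rcases hall ⟨_, m1⟩ with e | e <;> rcases hall ⟨_, m2⟩ with e' | e'
    · exact invol_ne_one (h.image_invol (x := a') haS ha ha1 haz) (congrArg Subtype.val e)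
    · exact invol_ne_one (h.image_invol (x := a') haS ha ha1 haz) (congrArg Subtype.val e)
    · exact invol_ne_one (h.image_invol (x := c') hcS hc hc1 hcz) (congrArg Subtype.val e')
    · exact hne' (congrArg Subtype.val (e.trans e'.symm))
  haveI hOn : (Cfsg.pPrimeCore 2 (↥(centralizer ({z} : Set G)) ⧸ cK S z)).Normal := by
    rw [CfsgLib.Coprime.pPrimeCore_eq_piCore Nat.prime_two]; infer_instance
  have hAp : IsPGroup 2 A := fun x => ⟨1, Subtype.ext (by
    rw [Subgroup.coe_pow, pow_one, pow_two]; exact hAsq _ x.2)⟩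
  obtain ⟨k, hk⟩ := hAp.exists_card_eq
  have hle : Cfsg.pPrimeCore 2 (↥(centralizer ({z} : Set G)) ⧸ cK S z) ≤ cM S z := by
    refine CfsgLib.Coprime.le_of_centralizers_le hAnc ?_ ?_ fun x hx hx1 => inf_le_right.trans ?_
    · rw [normalizer_eq_top]; exact le_top
    · rw [hk]
      exact Nat.Coprime.pow_left _ (CfsgLib.Coprime.pPrimeCore_coprime Nat.prime_two).symm
    · rcases mem_fourSub.1 hx with rfl | rfl | rfl | rfl
      · exact absurd rfl hx1
      · exact h.centralizer_le_cM (x := a') haS ha ha1 haz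
      · exact h.centralizer_le_cM (x := c') hcS hc hc1 hcz
      · rw [← map_mul]
        exact h.centralizer_le_cM (x := a' * c') (mul_mem haS hcS) hacS hac1 hacz
  exact le_bot_iff.1 ((normal_le_normalCore.2 hle).trans h.cM_core.le)

section nocore

variable (hO : Cfsg.pPrimeCore 2 (↥(centralizer ({z} : Set G)) ⧸ cK S z) = ⊥)
include hO

/-- A central involution is moved off its coset modulo `z`. -/
theorem exists_moved {y : G} (hy : y ∈ zSub S) (hy1 : y ≠ 1) (hyz : y ≠ z) :
    ∃ m ∈ normalizer ((S : Subgroup G) : Set G), m * z = z * m ∧ m * y * m⁻¹ ≠ y ∧ m * y * m⁻¹ ≠ y * z := by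
  set π := QuotientGroup.mk' (cK S z) with hπ
  set x := h.lift hy.1 with hx
  by_contra hcon
  push Not at hcon
  have hiso : Cfsg.IsIsolatedInvolution (π x) := by
    refine ⟨h.image_invol hy.1 hy.2.1 hy1 hyz, fun g hc => ?_⟩
    obtain ⟨g', rfl⟩ := QuotientGroup.mk'_surjective _ g
    have hg' : g' ∈ cN S z := h.fuse_cM hy.1 hy.2.1 hy1 hyz
      (h.centralizer_le_cM hy.1 hy.2.1 hy1 hyz (mem_centralizer_singleton_iff.2 hc.symm.eq))
    rw [← map_inv, ← map_mul, ← map_mul]
    by_cases e : (g' : G) * y * (g' : G)⁻¹ = y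
    · rw [show g' * x * g'⁻¹ = x from Subtype.ext e]
    · have e2 := hcon g' hg' (mem_centralizer_singleton_iff.1 g'.2) e
      have hzC : z ∈ centralizer ({z} : Set G) := mem_centralizer_singleton_iff.2 rfl
      rw [show g' * x * g'⁻¹ = x * ⟨z, hzC⟩ from Subtype.ext e2, map_mul,
        show π ⟨z, hzC⟩ = 1 from ?_, mul_one]
      refine (QuotientGroup.eq_one_iff _).2 fun c => ?_
      show (c : G) * z * (c : G)⁻¹ ∈ normalizer ((S : Subgroup G) : Set G)
      rw [mem_centralizer_singleton_iff.1 c.2, mul_inv_cancel_right]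
      exact le_normalizer h.mem.1
  have hcen := eq_of_zcentral_bot (zstar hiso) hO
  exact h.cM_ne_top (eq_top_iff.2 fun c _ =>
    h.centralizer_le_cM hy.1 hy.2.1 hy1 hyz (mem_centralizer_singleton_iff.2 (mem_center_iff.1 hcen c)))

theorem stronglyEmbedded {y : G} (hy : y ∈ zSub S) (hy1 : y ≠ 1) (hyz : y ≠ z) :
    Cfsg.IsStronglyEmbedded
      ((cM S z).subgroupOf (normalClosure ({QuotientGroup.mk' (cK S z) (h.lift hy.1)} : Set _))) :=
  CfsgLib.SECrit.critThm _ _ _ (h.crit hy hy1 hyz) h.cM_ne_top h.cM_core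

/-- The normal closures of two central involutions agree. -/
theorem mem_closure_of {y y' : G} (hy : y ∈ zSub S) (hy1 : y ≠ 1) (hyz : y ≠ z)
    (hy' : y' ∈ zSub S) (hy1' : y' ≠ 1) (hyz' : y' ≠ z) :
    QuotientGroup.mk' (cK S z) (h.lift hy'.1) ∈
      normalClosure ({QuotientGroup.mk' (cK S z) (h.lift hy.1)} : Set _) := by
  haveI : Fact (Nat.Prime 2) := ⟨Nat.prime_two⟩
  set t := QuotientGroup.mk' (cK S z) (h.lift hy.1) with ht
  set t' := QuotientGroup.mk' (cK S z) (h.lift hy'.1) with ht'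
  set L := normalClosure ({t} : Set (↥(centralizer ({z} : Set G)) ⧸ cK S z)) with hL
  set L' := normalClosure ({t'} : Set (↥(centralizer ({z} : Set G)) ⧸ cK S z)) with hL'
  haveI : L.Normal := normalClosure_normal
  haveI : L'.Normal := normalClosure_normal
  have hSE : Cfsg.IsStronglyEmbedded ((cM S z).subgroupOf L) := h.stronglyEmbedded hO hy hy1 hyz
  have hSE' : Cfsg.IsStronglyEmbedded ((cM S z).subgroupOf L') := h.stronglyEmbedded hO hy' hy1' hyz'
  have htL : t ∈ L := subset_normalClosure (Set.mem_singleton _)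
  have htL' : t' ∈ L' := subset_normalClosure (Set.mem_singleton _)
  have hne : L ⊓ L' ≠ ⊥ := by
    intro e
    refine hSE.1 (subgroupOf_eq_top.2 fun l hl => ?_)
    exact h.centralizer_le_cM hy'.1 hy'.2.1 hy1' hyz' (mem_centralizer_singleton_iff.2
      (commute_of_normal_of_disjoint L L' inferInstance inferInstance (disjoint_iff.2 e) l t' hl htL').eq)
  have h2 : 2 ∣ Nat.card ↥(L ⊓ L') := by
    by_contra hd
    exact hne (le_bot_iff.1 ((CfsgLib.Coprime.le_pPrimeCore_of_not_dvd Nat.prime_two hd).trans hO.le))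
  obtain ⟨w, hw, hwo⟩ := exists_invol_mem (even_iff_two_dvd.2 h2)
  have hwo' : orderOf (⟨w, hw.2⟩ : ↥L') = 2 := by rw [Subgroup.orderOf_mk, hwo]
  obtain ⟨l, hl⟩ := isConj_iff.1 (exists_conj_fixing hSE' hwo'
    (w := ⟨t', htL'⟩) (by rw [Subgroup.orderOf_mk]; exact h.image_invol hy'.1 hy'.2.1 hy1' hyz'))
  have : (l : ↥(centralizer ({z} : Set G)) ⧸ cK S z) * w * (l : ↥(centralizer ({z} : Set G)) ⧸ cK S z)⁻¹ = t' :=
    congrArg Subtype.val hl
  rw [← this]
  exact (inferInstance : L.Normal).conj_mem w hw.1 _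

/-- The involutions of the normal closure in `N(S)` are images of central involutions. -/
theorem exists_conj_of_mem {y : G} (hy : y ∈ zSub S) (hy1 : y ≠ 1) (hyz : y ≠ z)
    {t : ↥(centralizer ({z} : Set G)) ⧸ cK S z}
    (htL : t ∈ normalClosure ({QuotientGroup.mk' (cK S z) (h.lift hy.1)} : Set _))
    (htM : t ∈ cM S z) (ht : orderOf t = 2) :
    ∃ m : ↥(centralizer ({z} : Set G)), m ∈ cN S z ∧
      QuotientGroup.mk' (cK S z) (m * h.lift hy.1 * m⁻¹) = t := by
  set t₀ := QuotientGroup.mk' (cK S z) (h.lift hy.1) with ht₀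
  have hSE : Cfsg.IsStronglyEmbedded ((cM S z).subgroupOf (normalClosure ({t₀} : Set _))) :=
    h.stronglyEmbedded hO hy hy1 hyz
  obtain ⟨l, hl⟩ := isConj_iff.1 (exists_conj_fixing hSE
    (i := ⟨t₀, subset_normalClosure (Set.mem_singleton _)⟩) (w := ⟨t, htL⟩)
    (by rw [Subgroup.orderOf_mk]; exact h.image_invol hy.1 hy.2.1 hy1 hyz) (by rw [Subgroup.orderOf_mk, ht]))
  obtain ⟨g, hg⟩ := QuotientGroup.mk'_surjective (cK S z) (l : ↥(centralizer ({z} : Set G)) ⧸ cK S z)
  have e : QuotientGroup.mk' (cK S z) g * t₀ * (QuotientGroup.mk' (cK S z) g)⁻¹ = t := by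
    rw [hg]; exact congrArg Subtype.val hl
  refine ⟨g, h.fuse_cM hy.1 hy.2.1 hy1 hyz (by rw [e]; exact htM), ?_⟩
  rw [map_mul, map_mul, map_inv]
  exact e

/-- `C(z)` has at most two orbits on the central involutions other than `z`. -/
theorem two_orbits {y y' : G} (hy : y ∈ zSub S) (hy1 : y ≠ 1) (hyz : y ≠ z)
    (hy' : y' ∈ zSub S) (hy1' : y' ≠ 1) (hyz' : y' ≠ z) :
    ∃ m ∈ normalizer ((S : Subgroup G) : Set G), m * z = z * m ∧
      (m * y * m⁻¹ = y' ∨ m * y * m⁻¹ = y' * z) := by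
  obtain ⟨m, hm, e⟩ := h.exists_conj_of_mem hO hy hy1 hyz (h.mem_closure_of hO hy hy1 hyz hy' hy1' hyz')
    (mem_map_of_mem _ (show y' ∈ normalizer ((S : Subgroup G) : Set G) from le_normalizer hy'.1))
    (h.image_invol hy'.1 hy'.2.1 hy1' hyz')
  have hinS : (m : G) * y * (m : G)⁻¹ ∈ (S : Subgroup G) := (mem_set_normalizer_iff.1 hm y).1 hy.1
  exact ⟨m, hm, mem_centralizer_singleton_iff.1 m.2,
    h.eq_or_eq_mul (conj_mem_zSub h.hyp hy hy1 hinS) hy' e⟩

end nocore

end Bad

end CfsgLib.CentInt
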