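import Cfsg.Agent.Lib.Invol.CentralInter.Orbit
import Cfsg.Agent.Lib.CIT.TwoNilp.UFour.Fusion

/-!
# A bad centralizer leaves at most eight central involutions
-/

set_option autoImplicit false
set_option linter.style.haveILetI false
set_option linter.unusedSectionVars false

open Subgroup

namespace CfsgLib.CentInt

open CfsgLib.Invol

universe u

variable {G : Type u} [Group G] [Finite G] {S : Sylow 2 G}

/-- The commutators of the central involutions with the stabilizer of `z`. -/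
def vSub (S : Sylow 2 G) (z : G) : Subgroup G :=
  closure {c | ∃ a ∈ zSub S, ∃ m ∈ zStab S z, c = a * (m * a * m⁻¹)}

theorem vSub_le (S : Sylow 2 G) (z : G) : vSub S z ≤ zSub S := (closure_le _).2 fun _ ⟨_, ha, _, hm, e⟩ =>
  e ▸ mul_mem ha (conj_mem_zSub_of_normalizer (mem_zStab.1 hm).2 ha)

theorem vSub_invariant {z m b : G} (hm : m ∈ zStab S z) (hb : b ∈ vSub S z) : m * b * m⁻¹ ∈ vSub S z := by
  induction hb using closure_induction with
  | mem c hc =>
    obtain ⟨a, ha, k, hk, rfl⟩ := hc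
    refine subset_closure ⟨m * a * m⁻¹, conj_mem_zSub_of_normalizer (mem_zStab.1 hm).2 ha, m * k * m⁻¹,
      mul_mem (mul_mem hm hk) (inv_mem hm), ?_⟩
    group
  | one => simp
  | mul c d _ _ h1 h2 => rw [show m * (c * d) * m⁻¹ = m * c * m⁻¹ * (m * d * m⁻¹) by group]; exact mul_mem h1 h2
  | inv c _ h1 => rw [show m * c⁻¹ * m⁻¹ = (m * c * m⁻¹)⁻¹ by group]; exact inv_mem h1

theorem vSub_conj {z n b : G} (hn : n ∈ normalizer ((S : Subgroup G) : Set G)) (hb : b ∈ vSub S z) :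
    n * b * n⁻¹ ∈ vSub S (n * z * n⁻¹) := by
  induction hb using closure_induction with
  | mem c hc =>
    obtain ⟨a, ha, k, hk, rfl⟩ := hc
    refine subset_closure ⟨n * a * n⁻¹, conj_mem_zSub_of_normalizer hn ha, n * k * n⁻¹,
      mem_zStab.2 ⟨?_, mul_mem (mul_mem hn (mem_zStab.1 hk).2) (inv_mem hn)⟩, by group⟩
    calc n * k * n⁻¹ * (n * z * n⁻¹) = n * (k * z) * n⁻¹ := by group
      _ = n * (z * k) * n⁻¹ := by rw [(mem_zStab.1 hk).1]
      _ = n * z * n⁻¹ * (n * k * n⁻¹) := by group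
  | one => simp
  | mul c d _ _ h1 h2 => rw [show n * (c * d) * n⁻¹ = n * c * n⁻¹ * (n * d * n⁻¹) by group]; exact mul_mem h1 h2
  | inv c _ h1 => rw [show n * c⁻¹ * n⁻¹ = (n * c * n⁻¹)⁻¹ by group]; exact inv_mem h1

theorem not_mem_vSub {z : G} (hz : z ∈ zSub S) (hz1 : z ≠ 1) : z ∉ vSub S z := by
  classical
  haveI : IsMulCommutative ↥(zSub S) := ⟨⟨fun a b => Subtype.ext (b.2.2.2 _ a.2.1)⟩⟩
  letI : CommGroup ↥(zSub S) :=
    { (inferInstance : Group ↥(zSub S)) with mul_comm := fun a b => IsMulCommutative.is_comm.comm a b }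
  let φ : zStab S z →* MulAut ↥(zSub S) :=
    { toFun := fun m =>
        { toFun := fun y => ⟨(m : G) * y * (m : G)⁻¹, conj_mem_zSub_of_normalizer (mem_zStab.1 m.2).2 y.2⟩
          invFun := fun y => ⟨(m : G)⁻¹ * y * (m : G), by
            have := conj_mem_zSub_of_normalizer (inv_mem (mem_zStab.1 m.2).2) y.2
            rwa [inv_inv] at this⟩
          left_inv := fun y => Subtype.ext (by show (m : G)⁻¹ * ((m : G) * y * (m : G)⁻¹) * m = y; group)
          right_inv := fun y => Subtype.ext (by show (m : G) * ((m : G)⁻¹ * y * m) * (m : G)⁻¹ = y; group)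
          map_mul' := fun y w => Subtype.ext (by
            show (m : G) * (y * w) * (m : G)⁻¹ = (m : G) * y * (m : G)⁻¹ * ((m : G) * w * (m : G)⁻¹)
            group) }
      map_one' := by ext y; show (1 : G) * y * (1 : G)⁻¹ = y; group
      map_mul' := fun m k => by
        ext y
        show ((m : G) * k) * y * ((m : G) * k)⁻¹ = (m : G) * ((k : G) * y * (k : G)⁻¹) * (m : G)⁻¹
        group }
  letI : Fintype φ.range := Fintype.ofFinite _
  have hodd : Odd (Fintype.card φ.range) := by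
    rw [← Nat.card_eq_fintype_card, ← Nat.not_even_iff_odd, even_iff_two_dvd]
    intro hd
    obtain ⟨⟨w, m, rfl⟩, hw⟩ := exists_prime_orderOf_dvd_card' (G := φ.range) 2 hd
    obtain ⟨r, hr, hfix⟩ := exists_odd_pow_fix (mem_zStab.1 m.2).2
    have e : φ m ^ r = 1 := by
      rw [← map_pow]
      ext y
      show ((m ^ r : zStab S z) : G) * y * ((m ^ r : zStab S z) : G)⁻¹ = y
      rw [Subgroup.coe_pow]
      exact hfix y y.2
    rw [← Subgroup.orderOf_coe] at hw
    change orderOf (φ m) = 2 at hw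
    exact Nat.not_even_iff_odd.2 hr (even_iff_two_dvd.2 (hw ▸ orderOf_dvd_of_pow_eq_one e))
  let N : ↥(zSub S) →* ↥(zSub S) :=
    { toFun := fun y => ∏ σ : φ.range, (σ : MulAut ↥(zSub S)) y
      map_one' := by simp
      map_mul' := fun a b => by simp [Finset.prod_mul_distrib] }
  have hNinv : ∀ (m : zStab S z) (y : ↥(zSub S)), N (φ m y) = N y := fun m y =>
    Fintype.prod_equiv (Equiv.mulRight (⟨φ m, m, rfl⟩ : φ.range)) _ _ fun σ => rfl
  have hNz : N ⟨z, hz⟩ = ⟨z, hz⟩ := by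
    show ∏ σ : φ.range, (σ : MulAut ↥(zSub S)) ⟨z, hz⟩ = _
    have hfix : ∀ σ : φ.range, (σ : MulAut ↥(zSub S)) ⟨z, hz⟩ = ⟨z, hz⟩ := by
      rintro ⟨_, m, rfl⟩
      exact Subtype.ext (conj_z_of_stab m.2)
    simp only [hfix, Finset.prod_const, Finset.card_univ]
    obtain ⟨k, hk⟩ := hodd
    rw [hk, pow_succ, pow_mul, pow_two,
      show (⟨z, hz⟩ : ↥(zSub S)) * ⟨z, hz⟩ = 1 from Subtype.ext hz.2.1, one_pow, one_mul]
  have hker : vSub S z ≤ N.ker.map (zSub S).subtype := by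
    refine (closure_le _).2 ?_
    rintro _ ⟨a, ha, m, hm, rfl⟩
    refine ⟨⟨a, ha⟩ * φ ⟨m, hm⟩ ⟨a, ha⟩, ?_, rfl⟩
    rw [SetLike.mem_coe, MonoidHom.mem_ker, map_mul, hNinv, ← map_mul,
      show (⟨a, ha⟩ : ↥(zSub S)) * ⟨a, ha⟩ = 1 from Subtype.ext ha.2.1, map_one]
  intro hmem
  obtain ⟨w, hw, e⟩ := hker hmem
  have : w = ⟨z, hz⟩ := Subtype.ext e
  rw [this, SetLike.mem_coe, MonoidHom.mem_ker, hNz] at hw
  exact hz1 (congrArg Subtype.val hw)

namespace Bad

variable {z : G}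

theorem exists_move [IsSimpleGroup G] (hG : ¬ IsMulCommutative G) (h : Bad S z) :
    ∃ n ∈ normalizer ((S : Subgroup G) : Set G), n * z * n⁻¹ ≠ z := by
  haveI : Fact (Nat.Prime 2) := ⟨Nat.prime_two⟩
  have hiso := CfsgLib.TwoNilp.not_isolated hG z
  simp only [Cfsg.IsIsolatedInvolution, h.orderOf_z, true_and, not_forall] at hiso
  obtain ⟨g, hc, hne⟩ := hiso
  set C := centralizer ({z} : Set G)
  set z' : C := ⟨g * z * g⁻¹, mem_centralizer_singleton_iff.2 hc.symm.eq⟩ with hz'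
  have hP : IsPGroup 2 (zpowers z') := IsPGroup.of_card (n := 1) (by
    rw [Nat.card_zpowers, hz', Subgroup.orderOf_mk, invol_conj h.orderOf_z g, pow_one])
  obtain ⟨k, hk⟩ := exists_conj_le_sylow hP (S.subtype h.sylow_le)
  have hkS : (k : G) * g * z * ((k : G) * g)⁻¹ ∈ (S : Subgroup G) := by
    have := hk z' (mem_zpowers z')
    change (k : G) * (g * z * g⁻¹) * (k : G)⁻¹ ∈ (S : Subgroup G) at this
    rwa [show (k : G) * g * z * ((k : G) * g)⁻¹ = (k : G) * (g * z * g⁻¹) * (k : G)⁻¹ by group]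
  obtain ⟨n, hn, e⟩ := exists_normalizer_conj h.hyp h.mem h.ne_one hkS
  refine ⟨n, hn, fun e' => hne ?_⟩
  rw [e, show (k : G) * g * z * ((k : G) * g)⁻¹ = (k : G) * (g * z * g⁻¹) * (k : G)⁻¹ by group] at e'
  have hkz := mem_centralizer_singleton_iff.1 k.2
  calc g * z * g⁻¹ = (k : G)⁻¹ * ((k : G) * (g * z * g⁻¹) * (k : G)⁻¹) * k := by group
    _ = (k : G)⁻¹ * (z * k) := by rw [e', mul_assoc]
    _ = z := by rw [← hkz]; group

theorem twoOrb (h : Bad S z) : TwoOrb S z := by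
  intro y hy hy1 hyz y' hy' hy1' hyz'
  by_cases e : y' = y
  · exact ⟨1, one_mem _, Or.inl (by rw [e]; group)⟩
  by_cases e2 : y' = y * z
  · refine ⟨1, one_mem _, Or.inr ?_⟩
    rw [e2, mul_assoc y, h.mem.2.1, mul_one]
    group
  have hcomm : Commute y y' := (hy.2.2 _ hy'.1).symm
  have hO := h.core_eq_bot hy.1 hy'.1 hy.2.1 hy'.2.1 hy1 hy1' hcomm (Ne.symm e) hyz hyz' fun e3 => e2 (by
    rw [← e3, ← mul_assoc, hy.2.1, one_mul])
  obtain ⟨m, hm, hmz, hc⟩ := h.two_orbits hO hy hy1 hyz hy' hy1' hyz'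
  exact ⟨m, mem_zStab.2 ⟨hmz, hm⟩, hc⟩

theorem transitive' [IsSimpleGroup G] (hG : ¬ IsMulCommutative G) (h : Bad S z) {w : G} (hw : w ∈ zSub S)
    (hw1 : w ≠ 1) : ∃ n ∈ normalizer ((S : Subgroup G) : Set G), n * z * n⁻¹ = w :=
  CentInt.transitive h.mem h.ne_one h.twoOrb (h.exists_move hG) hw hw1

/-- Every central involution is bad. -/
theorem bad_of_mem [IsSimpleGroup G] (hG : ¬ IsMulCommutative G) (h : Bad S z) {w : G} (hw : w ∈ zSub S)
    (hw1 : w ≠ 1) : Bad S w := by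
  refine ⟨h.hyp, hw, hw1, fun hle => h.bad fun c hc => ?_⟩
  obtain ⟨n, hn, rfl⟩ := h.transitive' hG hw hw1
  have h1 : n * c * n⁻¹ ∈ centralizer ({n * z * n⁻¹} : Set G) := by
    rw [mem_centralizer_singleton_iff]
    calc n * c * n⁻¹ * (n * z * n⁻¹) = n * (c * z) * n⁻¹ := by group
      _ = n * (z * c) * n⁻¹ := by rw [mem_centralizer_singleton_iff.1 hc]
      _ = n * z * n⁻¹ * (n * c * n⁻¹) := by group
  have := mul_mem (mul_mem (inv_mem hn) (hle h1)) hn
  rwa [show n⁻¹ * (n * c * n⁻¹) * n = c by group] at this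

end Bad

/-- For many central involutions, `vSub` is a hyperplane avoiding `z`. -/
theorem vSub_index {z : G} (hz : z ∈ zSub S) (hz1 : z ≠ 1) (h2 : TwoOrb S z) (h8 : 8 ≤ Nat.card (zSub S)) :
    (∀ a ∈ zSub S, ∀ b ∈ zSub S, (a * b ∈ vSub S z ↔ (a ∈ vSub S z ↔ b ∈ vSub S z))) ∧
    ∀ a ∈ others S z, a ∈ vSub S z → orbitSet (zStab S z) a = (vSub S z : Set G) \ {1} := by
  have hX : (others S z).ncard = Nat.card (zSub S) - 2 := by
    have h1 : others S z = ((zSub S : Set G) \ {1, z}) := by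
      ext a
      simp [others, not_or]
    have h2' : ({1, z} : Set G) ⊆ (zSub S : Set G) := by
      intro a ha
      rcases ha with rfl | rfl
      · exact one_mem _
      · exact hz
    rw [h1, Set.ncard_diff h2' (Set.toFinite _), Set.ncard_pair hz1.symm, ← Nat.card_coe_set_eq]
    rfl
  obtain ⟨y, hy⟩ : (others S z).Nonempty := by
    rw [← Set.ncard_pos (Set.toFinite _)]; omega
  obtain ⟨hsub, -, -, hcard⟩ := orbit_split hz hz1 h2 hy
  obtain ⟨b, hb, hby⟩ : ∃ b ∈ orbitSet (zStab S z) y, b ≠ y :=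
    Set.exists_ne_of_one_lt_ncard (by omega) y
  obtain ⟨m, hm, rfl⟩ := hb
  obtain ⟨v, hvdef⟩ : ∃ v, v = y * (m * y * m⁻¹) := ⟨_, rfl⟩
  have hvV : v ∈ vSub S z := subset_closure ⟨y, hy.1, m, hm, hvdef⟩
  have hv1 : v ≠ 1 := by
    rw [hvdef]
    intro e
    have h' := inv_eq_of_mul_eq_one_right e
    rw [inv_eq_of_mul_eq_one_left hy.1.2.1] at h'
    exact hby h'.symm
  have hvz : v ≠ z := fun e => not_mem_vSub hz hz1 (e ▸ hvV)
  have hvX : v ∈ others S z := ⟨vSub_le S z hvV, hv1, hvz⟩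
  obtain ⟨hsubv, hunv, hdisv, hcardv⟩ := orbit_split hz hz1 h2 hvX
  have hset : orbitSet (zStab S z) v = (vSub S z : Set G) \ {1} := by
    refine Set.Subset.antisymm ?_ ?_
    · rintro _ ⟨k, hk, rfl⟩
      exact ⟨vSub_invariant hk hvV, fun e => (stab_ne hk hv1 hvz).1 e⟩
    · rintro c ⟨hcV, hc1⟩
      have hcz : c ≠ z := fun e => not_mem_vSub hz hz1 (e ▸ hcV)
      have hcX : c ∈ others S z := ⟨vSub_le S z hcV, hc1, hcz⟩
      rw [hunv] at hcX
      rcases hcX with h' | h'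
      · exact h'
      · exfalso
        obtain ⟨k, hk, rfl⟩ := h'
        have h3 := vSub_invariant (inv_mem hk) hcV
        rw [show k⁻¹ * (k * (v * z) * k⁻¹) * k⁻¹⁻¹ = v * z by group] at h3
        exact not_mem_vSub hz hz1 ((mul_mem_cancel_left hvV).1 h3)
  refine ⟨fun a ha b hb => ?_, fun a ha haV => ?_⟩
  · have hone : ∀ c ∈ zSub S, c ∉ vSub S z → c * z ∈ vSub S z := by
      intro c hc hcV
      by_cases hcz : c = z
      · rw [hcz, hz.2.1]; exact one_mem _
      have hc1 : c ≠ 1 := fun e => hcV (e ▸ one_mem _)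
      have hcX : c ∈ others S z := ⟨hc, hc1, hcz⟩
      rw [hunv, hset] at hcX
      rcases hcX with h' | ⟨k, hk, rfl⟩
      · exact absurd h'.1 hcV
      · have h3 := vSub_invariant hk hvV
        have e : k * (v * z) * k⁻¹ * z = k * v * k⁻¹ := by
          calc k * (v * z) * k⁻¹ * z = k * v * k⁻¹ * ((k * z * k⁻¹) * z) := by group
            _ = k * v * k⁻¹ := by rw [conj_z_of_stab hk, hz.2.1, mul_one]
        rwa [e]
    have hne := not_mem_vSub hz hz1
    constructor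
    · intro hab
      exact ⟨fun ha' => (mul_mem_cancel_left ha').1 hab, fun hb' => (mul_mem_cancel_right hb').1 hab⟩
    · intro hiff
      by_cases ha' : a ∈ vSub S z
      · exact mul_mem ha' (hiff.1 ha')
      · have hb' : b ∉ vSub S z := fun hh => ha' (hiff.2 hh)
        have h3 := mul_mem (hone a ha ha') (hone b hb hb')
        rwa [show a * z * (b * z) = a * b by
          rw [mul_assoc a z, ← mul_assoc z b z, ← hz.2.2 b hb.1, mul_assoc b z z, hz.2.1, mul_one]] at h3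
  · rw [← hset]
    have : a ∈ orbitSet (zStab S z) v := hset ▸ ⟨haV, fun e => ha.2.1 e⟩
    exact orbitSet_eq this

/-- Of two central involutions exactly one lies in the hyperplane of the other. -/
theorem vSub_dual [IsSimpleGroup G] (hG : ¬ IsMulCommutative G) {z : G} (h : Bad S z)
    (h8 : 8 ≤ Nat.card (zSub S)) {a b : G} (ha : a ∈ zSub S) (hb : b ∈ zSub S) (ha1 : a ≠ 1) (hb1 : b ≠ 1)
    (hab : a ≠ b) : b ∈ vSub S a ↔ a ∉ vSub S b := by
  have hA := h.bad_of_mem hG ha ha1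
  obtain ⟨-, horA⟩ := vSub_index ha ha1 hA.twoOrb h8
  obtain ⟨n, hn, hnab⟩ := hA.transitive' hG hb hb1
  have hB := h.bad_of_mem hG hb hb1
  obtain ⟨hiffB, horB⟩ := vSub_index hb hb1 hB.twoOrb h8
  obtain ⟨c, hc⟩ : ∃ c, c = n * b * n⁻¹ := ⟨_, rfl⟩
  have hcX : c ∈ others S b := by
    refine ⟨hc ▸ conj_mem_zSub_of_normalizer hn hb, fun e => hb1 ?_, fun e => hab ?_⟩
    · rw [show b = n⁻¹ * c * n by rw [hc]; group, e]; group
    · refine mul_left_cancel (a := n) (mul_right_cancel (b := n⁻¹) ?_)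
      rw [hnab, ← hc, e]
  have haX : a ∈ others S b := ⟨ha, ha1, hab⟩
  have hswap : c ∉ orbitSet (zStab S b) a := by
    rintro ⟨k, hk, e⟩
    refine hab (no_swap (S := S) (m := k⁻¹ * n) (mul_mem (inv_mem (mem_zStab.1 hk).2) hn) ha ?_ ?_)
    · calc k⁻¹ * n * a * (k⁻¹ * n)⁻¹ = k⁻¹ * (n * a * n⁻¹) * k⁻¹⁻¹ := by group
        _ = b := by rw [hnab]; exact conj_z_of_stab (inv_mem hk)
    · calc k⁻¹ * n * b * (k⁻¹ * n)⁻¹ = k⁻¹ * (k * a * k⁻¹) * k := by rw [e, hc]; group
        _ = a := by group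
  have hiff : b ∈ vSub S a ↔ c ∈ vSub S b := by
    constructor
    · intro hv
      have := vSub_conj hn hv
      rwa [hnab, ← hc] at this
    · intro hv
      have := vSub_conj (inv_mem hn) hv
      rw [show n⁻¹ * c * n⁻¹⁻¹ = b by rw [hc]; group,
        show n⁻¹ * b * n⁻¹⁻¹ = a by rw [← hnab]; group] at this
      exact this
  rw [hiff]
  constructor
  · intro hcV haV
    refine hswap ?_
    rw [horB a haX haV]
    exact ⟨hcV, fun e => hcX.2.1 e⟩
  · intro haV
    by_contra hcV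
    refine hswap ?_
    obtain ⟨-, hun, -, -⟩ := orbit_split hb hb1 hB.twoOrb haX
    have hc' := hcX
    rw [hun] at hc'
    refine hc'.resolve_right fun h' => ?_
    obtain ⟨k, hk, e⟩ := h'
    have hab' : a * b ∈ vSub S b := by
      have hh := (hiffB a ha b hb).2 (iff_of_false haV (not_mem_vSub hb hb1))
      exact hh
    exact hcV (e ▸ vSub_invariant hk hab')

/-- At most eight central involutions. -/
theorem card_zSub_le [IsSimpleGroup G] (hG : ¬ IsMulCommutative G) {z : G} (h : Bad S z) :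
    Nat.card (zSub S) = 4 ∨ Nat.card (zSub S) = 8 := by
  haveI : Fact (Nat.Prime 2) := ⟨Nat.prime_two⟩
  obtain ⟨k, hk⟩ := (S.2.to_le (zSub_le S)).exists_card_eq
  have h3 : 3 ≤ Nat.card (zSub S) := by
    obtain ⟨n, hn, hne⟩ := h.exists_move hG
    have hsub : ({1, z, n * z * n⁻¹} : Set G) ⊆ (zSub S : Set G) := by
      intro a ha
      rcases ha with rfl | rfl | rfl
      · exact one_mem _
      · exact h.mem
      · exact conj_mem_zSub_of_normalizer hn h.mem
    have hc := Set.ncard_le_ncard hsub (Set.toFinite _)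
    rw [Set.ncard_eq_three.2 ⟨1, z, n * z * n⁻¹, h.ne_one.symm,
      fun e => h.ne_one (by rw [show z = n⁻¹ * (n * z * n⁻¹) * n by group, ← e]; group), hne.symm, rfl⟩,
      ← Nat.card_coe_set_eq] at hc
    exact hc
  by_contra hcon
  have h16 : 16 ≤ Nat.card (zSub S) := by
    rw [hk] at h3 hcon ⊢
    rcases lt_or_ge k 4 with hk4 | hk4
    · interval_cases k <;> simp_all
    · exact (show 16 = 2 ^ 4 by norm_num) ▸ Nat.pow_le_pow_right two_pos hk4
  have key : ∀ a ∈ zSub S, ∀ b ∈ zSub S, a ≠ 1 → b ≠ 1 → a ≠ b → (b ∈ vSub S a ↔ a ∉ vSub S b) :=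
    fun a ha b hb ha1 hb1 hab => vSub_dual hG h (by omega) ha hb ha1 hb1 hab
  obtain ⟨b, hbz, hb1, hbne⟩ : ∃ b ∈ zSub S, b ≠ 1 ∧ b ≠ z := by
    by_contra hh
    push Not at hh
    have hsub : (zSub S : Set G) ⊆ {1, z} := fun a ha => by
      by_cases e : a = 1
      · exact Or.inl e
      · exact Or.inr (hh a ha e)
    have := Set.ncard_le_ncard hsub (Set.toFinite _)
    rw [← Nat.card_coe_set_eq, Set.ncard_pair h.ne_one.symm] at this
    change Nat.card (zSub S) ≤ 2 at this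
    omega
  have hab1 : z * b ≠ 1 := fun e => hbne ((eq_inv_of_mul_eq_one_right e).trans (inv_eq_of_mul_eq_one_left h.mem.2.1))
  set P : Set G := {1, z, b, z * b} with hP
  have hPcard : P.ncard ≤ 4 := by
    rw [hP]
    refine (Set.ncard_insert_le _ _).trans (Nat.succ_le_succ ((Set.ncard_insert_le _ _).trans (Nat.succ_le_succ ?_)))
    exact (Set.ncard_insert_le _ _).trans (Nat.succ_le_succ (Set.ncard_singleton _).le)
  obtain ⟨x, hx, hxP⟩ : ∃ x ∈ (zSub S : Set G), x ∉ P :=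
    Set.exists_mem_notMem_of_ncard_lt_ncard (by rw [← Nat.card_coe_set_eq (zSub S : Set G)]; change _ < Nat.card (zSub S); omega)
  obtain ⟨w, hw, hwP⟩ : ∃ w ∈ (zSub S : Set G), w ∉ P ∪ (fun p => x * p) '' P :=
    Set.exists_mem_notMem_of_ncard_lt_ncard (by
      have h1 := Set.ncard_union_le P ((fun p => x * p) '' P)
      have h2 := Set.ncard_image_le (f := fun p => x * p) (Set.toFinite P)
      rw [← Nat.card_coe_set_eq (zSub S : Set G)]
      change _ < Nat.card (zSub S)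
      omega)
  have hxwP : x * w ∉ P := fun hh => hwP (Or.inr ⟨x * w, hh, by
    show x * (x * w) = w
    rw [← mul_assoc, hx.2.1, one_mul]⟩)
  have rel : ∀ a ∈ zSub S, a ∉ P → ((a ∈ vSub S z ↔ a ∈ vSub S b) ↔ a ∉ vSub S (z * b)) := by
    intro a ha haP
    simp only [hP, Set.mem_insert_iff, Set.mem_singleton_iff, not_or] at haP
    have hA := h.bad_of_mem hG ha haP.1
    have hi := (vSub_index ha haP.1 hA.twoOrb (by omega)).1 z h.mem b hbz
    rw [key z h.mem a ha h.ne_one haP.1 (Ne.symm haP.2.1), key b hbz a ha hb1 haP.1 (Ne.symm haP.2.2.1),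
      key (z * b) (mul_mem h.mem hbz) a ha hab1 haP.1 (Ne.symm haP.2.2.2), not_not, hi]
    tauto
  have lin : ∀ c ∈ zSub S, c ≠ 1 → (x * w ∈ vSub S c ↔ (x ∈ vSub S c ↔ w ∈ vSub S c)) := fun c hc hc1 =>
    (vSub_index hc hc1 (h.bad_of_mem hG hc hc1).twoOrb (by omega)).1 x hx w hw
  have r1 := rel x hx hxP
  have r2 := rel w hw fun hh => hwP (Or.inl hh)
  have r3 := rel (x * w) (mul_mem hx hw) hxwP
  rw [lin z h.mem h.ne_one, lin b hbz hb1, lin (z * b) (mul_mem h.mem hbz) hab1] at r3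
  tauto

end CfsgLib.CentInt
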