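import Cfsg.Agent.Lib.Invol.CentralInter.Rank
import Cfsg.Agent.Lib.CIT.TwoNilp.UFour.FiveExists
import Cfsg.Agent.Lib.CIT.UFourFive.Defs
import Cfsg.Agent.Lib.Bender.Consumers.PslFacts
import Cfsg.Agent.S0483
import Cfsg.Agent.S0253
import Cfsg.Agent.S0949
import Cfsg.Agent.S1237

/-!
# Four central involutions
-/

set_option autoImplicit false
set_option linter.style.haveILetI false
set_option linter.unusedSectionVars false
set_option maxRecDepth 100000
set_option synthInstance.maxSize 4096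

open Subgroup

namespace CfsgLib.CentInt

open CfsgLib.Invol

universe u

/-- The theorem on Sylow subgroups of unitary type with an automorphism of order five. -/
def CoreThm : Prop :=
  ∀ (G : Type u) [Group G] [Finite G] [IsSimpleGroup G], ¬ IsMulCommutative G →
    ∀ (S : Sylow 2 G) (U : Subgroup G) (f : G), CfsgLib.UFourFive.FiveLocal S U f →
      ∀ u ∈ U, u ≠ 1 → centralizer ({u} : Set G) ≤ centralizer (U : Set G)

theorem alt_five_cent : ∀ a c : alternatingGroup (Fin 5), a * a = 1 → a ≠ 1 → c * a = a * c → c * c = 1 := by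
  decide +kernel

variable {G : Type u} [Group G] [Finite G] {S : Sylow 2 G} {z : G}

namespace Bad

theorem others_of_four (h : Bad S z) (h4 : Nat.card (zSub S) = 4) {y w : G} (hy : y ∈ others S z)
    (hw : w ∈ others S z) : w = y ∨ w = y * z := by
  by_contra hcon
  push Not at hcon
  have hyz := mul_z_mem h.mem hy
  have hne : y ≠ y * z := fun e => h.ne_one (mul_left_cancel (e.symm.trans (mul_one y).symm))
  have hsub : (insert 1 (insert z ({y, y * z, w} : Set G))) ⊆ (zSub S : Set G) := by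
    intro a ha
    rcases ha with rfl | rfl | rfl | rfl | rfl
    · exact one_mem _
    · exact h.mem
    · exact hy.1
    · exact hyz.1
    · exact hw.1
  have hc := Set.ncard_le_ncard hsub (Set.toFinite _)
  rw [Set.ncard_insert_of_notMem, Set.ncard_insert_of_notMem, Set.ncard_eq_three.2 ⟨y, y * z, w, hne, hcon.1.symm, hcon.2.symm, rfl⟩,
    ← Nat.card_coe_set_eq] at hc
  · change 3 + 1 + 1 ≤ Nat.card (zSub S) at hc
    omega
  · rintro (e | e | e)
    exacts [hy.2.2 e.symm, hyz.2.2 e.symm, hw.2.2 e.symm]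
  · rintro (e | e | e | e)
    exacts [h.ne_one e.symm, hy.2.1 e.symm, hyz.2.1 e.symm, hw.2.1 e.symm]

theorem invol_mem_of_four (h : Bad S z) (h4 : Nat.card (zSub S) = 4) {x : G} (hx : x ∈ (S : Subgroup G))
    (hx2 : x * x = 1) : x ∈ zSub S := by
  by_contra hxY
  have hx1 : x ≠ 1 := fun e => hxY (e ▸ one_mem _)
  obtain ⟨y, hy⟩ : (others S z).Nonempty := by
    by_contra hn
    rw [Set.not_nonempty_iff_eq_empty] at hn
    have hsub : (zSub S : Set G) ⊆ {1, z} := fun a ha => by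
      by_contra ha'
      simp only [Set.mem_insert_iff, Set.mem_singleton_iff, not_or] at ha'
      exact Set.eq_empty_iff_forall_notMem.1 hn a ⟨ha, ha'.1, ha'.2⟩
    have := Set.ncard_le_ncard hsub (Set.toFinite _)
    rw [← Nat.card_coe_set_eq, Set.ncard_pair h.ne_one.symm] at this
    change Nat.card (zSub S) ≤ 2 at this
    omega
  have hyx : y * x ≠ z := fun e => hxY (by
    have := mul_mem (inv_mem hy.1) h.mem
    rwa [← e, inv_mul_cancel_left] at this)
  have hO := h.core_eq_bot hy.1.1 hx hy.1.2.1 hx2 hy.2.1 hx1 (hy.1.2.2 x hx).symm (fun e => hxY (e ▸ hy.1))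
    hy.2.2 (fun e => hxY (e ▸ h.mem)) hyx
  obtain ⟨m, hm, hmz, h1, h2⟩ := h.exists_moved hO hy.1 hy.2.1 hy.2.2
  have hstab : m ∈ zStab S z := mem_zStab.2 ⟨hmz, hm⟩
  rcases h.others_of_four h4 hy ⟨conj_mem_zSub_of_normalizer hm hy.1, stab_ne hstab hy.2.1 hy.2.2⟩ with e | e
  exacts [h1 e, h2 e]

theorem card_sylow_four [IsSimpleGroup G] (hG : ¬ IsMulCommutative G) (hcore : CoreThm.{u}) (h : Bad S z)
    (h4 : Nat.card (zSub S) = 4) : Nat.card (S : Subgroup G) = 4 := by
  haveI : Fact (Nat.Prime 2) := ⟨Nat.prime_two⟩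
  set M := normalizer ((S : Subgroup G) : Set G)
  have hY : ∀ x : ↥(S : Subgroup G), x * x = 1 → (x : G) ∈ zSub S := fun x hx =>
    h.invol_mem_of_four h4 x.2 (congrArg Subtype.val hx)
  obtain ⟨n, hn, hne⟩ := h.exists_move hG
  obtain ⟨y, hyd⟩ : ∃ y, y = n * z * n⁻¹ := ⟨_, rfl⟩
  have hy : y ∈ others S z := ⟨hyd ▸ conj_mem_zSub_of_normalizer hn h.mem,
    fun e => h.ne_one (by rw [show z = n⁻¹ * y * n by rw [hyd]; group, e]; group), hyd ▸ hne⟩
  have hny : n * y * n⁻¹ = y * z := by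
    have hc : n * y * n⁻¹ ∈ others S z := by
      refine ⟨conj_mem_zSub_of_normalizer hn hy.1, fun e => hy.2.1 ?_, fun e => hy.2.2 ?_⟩
      · rw [show y = n⁻¹ * (n * y * n⁻¹) * n by group, e]; group
      · exact (no_swap hn h.mem hyd.symm e).symm
    refine (h.others_of_four h4 hy hc).resolve_left fun e => hy.2.2 ?_
    exact mul_left_cancel (mul_right_cancel (e.trans hyd))
  have hnw : n * (y * z) * n⁻¹ = z := by
    calc n * (y * z) * n⁻¹ = (n * y * n⁻¹) * (n * z * n⁻¹) := by group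
      _ = y * (z * y) := by rw [hny, ← hyd, mul_assoc]
      _ = z := by rw [hy.1.2.2 z h.mem.1, ← mul_assoc, hy.1.2.1, one_mul]
  have hinv : ∀ x : ↥(S : Subgroup G), orderOf x = 2 → (x : G) = z ∨ (x : G) = y ∨ (x : G) = y * z := by
    intro x hx
    have hx2 := invol_iff.1 hx
    have hxY := hY x hx2.1
    by_cases e : (x : G) = z
    · exact Or.inl e
    exact Or.inr (h.others_of_four h4 hy ⟨hxY, fun e' => hx2.2 (Subtype.ext e'), e⟩)
  let φ : MulAut ↥(S : Subgroup G) := (S : Subgroup G).normalizerMonoidHom ⟨n, hn⟩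
  have hφ : ∀ x : ↥(S : Subgroup G), (φ x : G) = n * x * n⁻¹ := fun x => rfl
  have htrans : ∀ s t : ↥(S : Subgroup G), orderOf s = 2 → orderOf t = 2 → ∃ k : ℕ, (φ ^ k) s = t := by
    intro s t hs ht
    have s1 : (φ ^ 1) s = φ s := by rw [pow_one]
    have s2 : (φ ^ 2) s = φ (φ s) := by rw [pow_two]; rfl
    rcases hinv s hs with a | a | a <;> rcases hinv t ht with b | b | b
    · exact ⟨0, Subtype.ext (a.trans b.symm)⟩
    · exact ⟨1, Subtype.ext (by rw [s1, hφ, a, ← hyd, b])⟩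
    · exact ⟨2, Subtype.ext (by rw [s2, hφ, hφ, a, ← hyd, hny, b])⟩
    · exact ⟨2, Subtype.ext (by rw [s2, hφ, hφ, a, hny, hnw, b])⟩
    · exact ⟨0, Subtype.ext (a.trans b.symm)⟩
    · exact ⟨1, Subtype.ext (by rw [s1, hφ, a, hny, b])⟩
    · exact ⟨1, Subtype.ext (by rw [s1, hφ, a, hnw, b])⟩
    · exact ⟨2, Subtype.ext (by rw [s2, hφ, hφ, a, hnw, ← hyd, b])⟩
    · exact ⟨0, Subtype.ext (a.trans b.symm)⟩
  have hr2 : Cfsg.PRankLE 2 2 ↥(S : Subgroup G) := fun A _ hA => by
    refine le_trans (Nat.card_le_card_of_injective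
      (fun a : A => (⟨((a : ↥(S : Subgroup G)) : G), hY a (by rw [← pow_two]; exact hA a a.2)⟩ : zSub S))
      fun a b e => Subtype.ext (Subtype.ext (congrArg (fun w : zSub S => (w : G)) e))) ?_
    rw [h4]; norm_num
  have hr1 : ¬ Cfsg.PRankLE 2 1 ↥(S : Subgroup G) := fun hr => by
    have := hr ((zSub S).subgroupOf (S : Subgroup G))
      ⟨⟨fun a b => Subtype.ext (Subtype.ext ((b.2 : ((b : ↥(S : Subgroup G)) : G) ∈ zSub S).2.2 _ a.1.2))⟩⟩
      fun a ha => Subtype.ext (by rw [Subgroup.coe_pow, pow_two]; exact (ha : (a : G) ∈ zSub S).2.1)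
    rw [Nat.card_congr (subgroupOfEquivOfLe (zSub_le S)).toEquiv, h4] at this
    norm_num at this
  haveI : Fintype (GaloisField 2 4) := Fintype.ofFinite _
  have hF : Fintype.card (GaloisField 2 4) = 16 := by
    rw [← Nat.card_eq_fintype_card, GaloisField.card 2 4 (by norm_num)]
    norm_num
  obtain ⟨P⟩ : Nonempty (Sylow 2 (Cfsg.PSU 3 (GaloisField 2 4) 4)) := inferInstance
  rcases Cfsg.Agent.S1237.result S.2 hr2 hr1 φ htrans hF P with ⟨k, hk, ⟨e⟩⟩ | ⟨⟨e⟩⟩
  · rcases Nat.lt_or_ge k 2 with hk2 | hk2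
    · obtain rfl : k = 1 := by omega
      rw [Nat.card_congr e.toEquiv, Nat.card_congr Multiplicative.toAdd, Nat.card_prod, Nat.card_zmod]
      norm_num
    exfalso
    have hO : ∀ N : Subgroup G, N.Normal → Odd (Nat.card N) → N = ⊥ := fun N hN hodd => by
      refine hN.eq_bot_or_eq_top.resolve_right fun e' => ?_
      rw [e', card_top] at hodd
      exact Nat.not_even_iff_odd.2 hodd (even_iff_two_dvd.2 (h.orderOf_z ▸ orderOf_dvd_natCard z))
    have hnorm := (Cfsg.Agent.S0949.result S k hk2 e hO).1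
    exact h.bad fun c _ => by rw [normalizer_eq_top]; exact mem_top _
  · exfalso
    have hU := CfsgLib.TwoNilp.uFour_of_mulEquiv hF P S e
    set U := (center ↥(S : Subgroup G)).map (S : Subgroup G).subtype with hUdef
    obtain ⟨f, hf⟩ := CfsgLib.TwoNilp.exists_fiveLocal hG hU
    have hle : U ≤ zSub S := fun u hu =>
      h.invol_mem_of_four h4 (hU.le hu) ((hU.mem_iff u (hU.le hu)).1 hu)
    have hUY : U = zSub S := eq_of_le_of_card_ge hle (by rw [h4, hU.cardU])
    refine h.bad fun c hc => ?_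
    have hc2 := hcore G hG S U f hf z (hUY ▸ h.mem) h.ne_one hc
    have hcy : c * y = y * c := (mem_centralizer_iff.1 hc2 y (hUY ▸ hy.1)).symm
    refine fuse h.hyp h.mem h.ne_one hy.1.1 hy.1.2.1 hy.2.1 hy.2.2 (mem_centralizer_singleton_iff.1 hc) ?_
    rw [hcy, mul_inv_cancel_right]
    exact le_normalizer hy.1.1

/-- A group with Sylow subgroups of order four with a bad centralizer. -/
theorem psl_of_four [IsSimpleGroup G] (hG : ¬ IsMulCommutative G) (h : Bad S z)
    (hS : Nat.card (S : Subgroup G) = 4) (h4 : Nat.card (zSub S) = 4) :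
    ∃ (F : Type) (_ : Field F) (_ : Fintype F), (Fintype.card F % 8 = 3 ∨ Fintype.card F % 8 = 5) ∧
      5 < Fintype.card F ∧ Nonempty (G ≃* Matrix.ProjectiveSpecialLinearGroup (Fin 2) F) := by
  haveI : Fact (Nat.Prime 2) := ⟨Nat.prime_two⟩
  have hSY : (S : Subgroup G) = zSub S := (eq_of_le_of_card_ge (zSub_le S) (by rw [hS, h4])).symm
  have hsq : ∀ x : ↥(S : Subgroup G), x * x = 1 := fun x =>
    Subtype.ext (hSY.le x.2).2.1
  have hab : ∀ a b : ↥(S : Subgroup G), a * b = b * a := fun a b =>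
    Subtype.ext ((hSY.le b.2).2.2 _ a.2)
  haveI : Nontrivial ↥(S : Subgroup G) := Finite.one_lt_card_iff_nontrivial.1 (by rw [hS]; norm_num)
  haveI : IsKleinFour ↥(S : Subgroup G) := ⟨hS, Monoid.exponent_eq_prime_iff Nat.prime_two |>.2 fun g hg =>
    invol_iff.2 ⟨hsq g, hg⟩⟩
  obtain ⟨ed⟩ := IsKleinFour.nonempty_mulEquiv (G₁ := ↥(S : Subgroup G)) (G₂ := DihedralGroup 2)
  haveI : Group.IsPerfect G := ⟨by
    rcases (inferInstance : (commutator G).Normal).eq_bot_or_eq_top with e | e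
    · exact absurd ⟨⟨fun a b => commutatorElement_eq_one_iff_mul_comm.1 (mem_bot.1
        (e ▸ commutator_mem_commutator (mem_top a) (mem_top b)))⟩⟩ hG
    · exact e⟩
  have hO : Cfsg.oddCore G = ⊥ := by
    have hn : (Cfsg.oddCore G).Normal := by
      show (Cfsg.pPrimeCore 2 G).Normal
      rw [CfsgLib.Coprime.pPrimeCore_eq_piCore Nat.prime_two]; infer_instance
    refine hn.eq_bot_or_eq_top.resolve_right fun e => ?_
    have hodd := CfsgLib.Coprime.pPrimeCore_not_dvd (G := G) Nat.prime_two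
    rw [show Cfsg.pPrimeCore 2 G = ⊤ from e, card_top] at hodd
    exact hodd (h.orderOf_z ▸ orderOf_dvd_natCard z)
  let ε : G ⧸ Cfsg.oddCore G ≃* G :=
    (QuotientGroup.quotientMulEquivOfEq hO).trans QuotientGroup.quotientBot
  rcases Cfsg.Agent.S0483.result S 2 le_rfl ⟨ed⟩ with ⟨F, iF, iF', hodd, h3, ⟨e⟩⟩ | ⟨⟨e⟩⟩
  · set E := ε.symm.trans e
    let Q : Sylow 2 (Matrix.ProjectiveSpecialLinearGroup (Fin 2) F) :=
      S.mapSurjective (f := E.toMonoidHom) E.surjective
    have hQ : ∀ a ∈ (Q : Subgroup (Matrix.ProjectiveSpecialLinearGroup (Fin 2) F)),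
        ∀ b ∈ (Q : Subgroup (Matrix.ProjectiveSpecialLinearGroup (Fin 2) F)), a * b = b * a := by
      rintro _ ⟨a, ha, rfl⟩ _ ⟨b, hb, rfl⟩
      rw [← map_mul, ← map_mul]
      exact congrArg E (congrArg Subtype.val (hab ⟨a, ha⟩ ⟨b, hb⟩))
    have hmod := CfsgLib.PslMax.mod_eight hodd Q hQ
    refine ⟨F, iF, iF', hmod, ?_, ⟨E⟩⟩
    by_contra h5
    have hF5 : Fintype.card F = 5 := by omega
    obtain ⟨e5⟩ := Cfsg.Agent.S0253.result hF5
    set E5 := E.trans e5
    refine h.bad fun c hc => ?_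
    have hp : IsPGroup 2 (centralizer ({z} : Set G)) := fun g => ⟨1, Subtype.ext (E5.injective (by
      rw [pow_one, pow_two, Subgroup.coe_mul, map_mul, Subgroup.coe_one, map_one]
      exact alt_five_cent (E5 z) (E5 g) (by rw [← map_mul, h.mem.2.1, map_one])
        (fun e' => h.ne_one (E5.injective (e'.trans (map_one E5).symm)))
        (by rw [← map_mul, ← map_mul, mem_centralizer_singleton_iff.1 g.2])))⟩
    exact le_normalizer ((S.3 hp h.sylow_le).le hc)
  · exfalso
    let Q : Sylow 2 (alternatingGroup (Fin 7)) :=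
      S.mapSurjective (f := (ε.symm.trans e).toMonoidHom) (ε.symm.trans e).surjective
    have hQ : Nat.card (Q : Subgroup (alternatingGroup (Fin 7))) = 4 :=
      (Subgroup.card_map_of_injective (ε.symm.trans e).injective).trans hS
    have hc : Nat.card (alternatingGroup (Fin 7)) = 2520 := by
      rw [Nat.card_eq_fintype_card]
      decide +kernel
    have h8 : (2 : ℕ) ^ 3 ∣ Nat.card (Q : Subgroup (alternatingGroup (Fin 7))) :=
      Q.pow_dvd_card_of_pow_dvd_card (by rw [hc]; norm_num)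
    rw [hQ] at h8
    norm_num at h8

end Bad

end CfsgLib.CentInt
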